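import Mathlib
import Cfsg.Agent.Fil.A
import Cfsg.Agent.S3224
import Cfsg.Agent.S1012
import Cfsg.Agent.Core.Basic
import Cfsg.Agent.Char.Expand
import Cfsg.Agent.Perm.Small2
import Cfsg.Agent.Perm.PrimeDegree

set_option autoImplicit false

namespace Cfsg.Agent.Fil.O168

open Subgroup Cfsg.Agent.Perm

instance f2 : Fact (Nat.Prime 2) := ⟨Nat.prime_two⟩
instance f3 : Fact (Nat.Prime 3) := ⟨Nat.prime_three⟩
instance f7 : Fact (Nat.Prime 7) := ⟨by norm_num⟩

variable {G : Type*} [Group G] [Finite G]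

theorem sylow_of_order {p : ℕ} [Fact p.Prime] (hc : ∀ P : Sylow p G, Nat.card P = p) {x : G} (hx : orderOf x = p) :
    ∃ P : Sylow p G, (P : Subgroup G) = zpowers x := by
  obtain ⟨P, hP⟩ := exists_sylow_mem (p := p) (k := 1) (x := x) (by rw [hx, pow_one])
  exact ⟨P, (eq_of_le_of_card_ge (zpowers_le.2 hP) (by rw [Nat.card_zpowers, hx]; exact (hc P).le)).symm⟩

theorem ncard_cl (x : G) : {g : G | IsConj x g}.ncard * Nat.card (centralizer ({x} : Set G)) = Nat.card G := by
  rw [← Nat.card_coe_set_eq, mul_comm]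
  exact (congrArg _ (Char.card_isConj x)).trans (card_mul_index _)

theorem orderOf_conj {x y : G} (h : IsConj x y) : orderOf y = orderOf x := by
  obtain ⟨u, rfl⟩ := isConj_iff.1 h
  exact (MulAut.conj u).orderOf_eq x

variable [IsSimpleGroup G] (h : Nat.card G = 168)
include h

theorem nc : ¬ IsMulCommutative G := not_comm_of_not_prime (by rw [h]; norm_num)

omit [IsSimpleGroup G] in
theorem c2 (P : Sylow 2 G) : Nat.card P = 8 := sylow_card_eq P (a := 3) (m := 21) (by rw [h]; norm_num) (by norm_num)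
omit [IsSimpleGroup G] in
theorem c3 (P : Sylow 3 G) : Nat.card P = 3 := sylow_card_eq P (a := 1) (m := 56) (by rw [h]; norm_num) (by norm_num)
omit [IsSimpleGroup G] in
theorem c7 (P : Sylow 7 G) : Nat.card P = 7 := sylow_card_eq P (a := 1) (m := 24) (by rw [h]; norm_num) (by norm_num)

theorem idx (H : Subgroup G) (hH : H ≠ ⊤) : 7 ≤ H.index := by
  have h1 := two_mul_card_dvd_factorial (nc h) H hH
  rw [h] at h1
  exact (Nat.Prime.dvd_factorial (by norm_num)).1 ((show 7 ∣ 2 * 168 by norm_num).trans h1)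

theorem n7 : Nat.card (Sylow 7 G) = 8 := by
  have h1 := card_sylow_dvd (G := G) (p := 7) (a := 1) (m := 24) (by rw [h]; norm_num) (by norm_num)
  have h2 := card_sylow_modEq_one 7 G
  have h3 := card_sylow_ne_one (p := 7) (nc h) (by rw [h]; norm_num)
  have := Nat.le_of_dvd (by norm_num) h1
  generalize Nat.card (Sylow 7 G) = n at *
  unfold Nat.ModEq at h2
  interval_cases n <;> omega

theorem N7 (P : Sylow 7 G) : Nat.card (normalizer ((P : Subgroup G) : Set G)) = 21 := by
  have := card_sylow_mul P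
  rw [n7 h, h] at this; omega

theorem cent_prime {p q : ℕ} [Fact p.Prime] (hq : q.Prime) (hc : ∀ P : Sylow p G, Nat.card P = p)
    (hN : ∀ P : Sylow p G, Nat.card (normalizer ((P : Subgroup G) : Set G)) = p * q) {x : G} (hx : orderOf x = p) :
    centralizer {x} = zpowers x := by
  have hp : p.Prime := Fact.out
  obtain ⟨P, hP⟩ := sylow_of_order hc hx
  have h1 := card_centralizer_mul_relIndex (P : Subgroup G)
  have h2 := relIndex_centralizer_ne_one (nc h) P (hx ▸ orderOf_dvd_natCard x)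
  rw [hN] at h1
  rw [hP, centralizer_zpowers] at h1 h2
  have h3 : zpowers x ≤ centralizer {x} := zpowers_le.2 (mem_centralizer_singleton_iff.2 rfl)
  obtain ⟨k, hk⟩ := card_dvd_of_le h3
  rw [Nat.card_zpowers, hx] at hk
  rw [hk, mul_assoc, Nat.mul_right_inj hp.ne_zero] at h1
  have h4 := (hq.eq_one_or_self_of_dvd _ (Dvd.intro_left _ h1)).resolve_left h2
  rw [h4] at h1
  have : k = 1 := Nat.eq_of_mul_eq_mul_right hq.pos (by rw [h1, one_mul])
  exact (eq_of_le_of_card_ge h3 (by rw [hk, this, Nat.card_zpowers, hx, mul_one])).symm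

theorem C7 {x : G} (hx : orderOf x = 7) : centralizer {x} = zpowers x :=
  cent_prime h Nat.prime_three (c7 h) (N7 h) hx

theorem ord_N7 (P : Sylow 7 G) {g : G} (hg : g ∈ normalizer ((P : Subgroup G) : Set G)) (h1 : g ∉ (P : Subgroup G)) :
    orderOf g = 3 := by
  have h2 : orderOf g ∣ 21 := by
    rw [← N7 h P]; exact Subgroup.orderOf_dvd_natCard _ hg
  have h3 : ¬ 7 ∣ orderOf g := fun e => by
    have h4 := orderOf_pow_orderOf_div (orderOf_pos g).ne' e
    have h5 : g ∈ centralizer {g ^ (orderOf g / 7)} := mem_centralizer_singleton_iff.2 (Commute.self_pow g _)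
    rw [C7 h h4] at h5
    obtain ⟨Q, hQ⟩ := sylow_of_order (c7 h) h4
    have := Q.isPGroup'.inf_normalizer_sylow P
    exact h1 (this.le ⟨hQ ▸ h5, hg⟩).2
  have h4 : orderOf g ≠ 1 := fun e => h1 (orderOf_eq_one_iff.1 e ▸ one_mem _)
  have := Nat.le_of_dvd (by norm_num) h2
  generalize orderOf g = n at *
  interval_cases n <;> omega

theorem n3 : Nat.card (Sylow 3 G) = 28 := by
  have h1 := card_sylow_dvd (G := G) (p := 3) (a := 1) (m := 56) (by rw [h]; norm_num) (by norm_num)
  have h2 := card_sylow_modEq_one 3 G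
  have h3 := two_mul_card_dvd_factorial_sylow (p := 3) (nc h) (by rw [h]; norm_num)
  rw [h] at h3
  have h4 := (Nat.Prime.dvd_factorial (by norm_num)).1 ((show 7 ∣ 2 * 168 by norm_num).trans h3)
  have h5 : Nat.card (Sylow 3 G) ≠ 7 := fun e => by
    obtain ⟨P⟩ := (Sylow.nonempty : Nonempty (Sylow 7 G))
    obtain ⟨Q⟩ := (Sylow.nonempty : Nonempty (Sylow 3 G))
    have h6 := ncard_orderOf_prime Q (c3 h Q)
    rw [e] at h6
    have h7 := Set.ncard_diff_add_ncard_of_subset (show ((P : Subgroup G) : Set G) ⊆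
      normalizer ((P : Subgroup G) : Set G) from le_normalizer)
    rw [show ((P : Subgroup G) : Set G).ncard = 7 from c7 h P,
      show ((normalizer ((P : Subgroup G) : Set G) : Subgroup G) : Set G).ncard = 21 from N7 h P] at h7
    have h8 := Set.eq_of_subset_of_ncard_le (show (normalizer ((P : Subgroup G) : Set G) : Set G) \ (P : Subgroup G) ⊆
      {g | orderOf g = 3} from fun g hg => ord_N7 h P hg.1 hg.2) (by omega)
    obtain ⟨y, hy⟩ := exists_prime_orderOf_dvd_card' (G := G) 3 (by rw [h]; norm_num)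
    rcases (normalizer ((P : Subgroup G) : Set G)).normalCore_normal.eq_bot_or_eq_top with k | k
    · have : y ∈ (normalizer ((P : Subgroup G) : Set G)).normalCore := fun b =>
        (h8.ge (((MulAut.conj b).orderOf_eq y).trans hy)).1
      rw [k, mem_bot] at this
      simp [this] at hy
    · have := card_le_of_le (k.ge.trans (normalCore_le _))
      rw [N7 h, card_top, h] at this; omega
  have := Nat.le_of_dvd (by norm_num) h1
  generalize Nat.card (Sylow 3 G) = n at *
  unfold Nat.ModEq at h2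
  interval_cases n <;> omega

theorem N3 (P : Sylow 3 G) : Nat.card (normalizer ((P : Subgroup G) : Set G)) = 6 := by
  have := card_sylow_mul P
  rw [n3 h, h] at this; omega

theorem C3 {x : G} (hx : orderOf x = 3) : centralizer {x} = zpowers x :=
  cent_prime h Nat.prime_two (c3 h) (N3 h) hx

theorem ord1 (g : G) : orderOf g = 3 ∨ orderOf g = 7 ∨ orderOf g ∣ 8 := by
  have key : ∀ p, (∀ x : G, orderOf x = p → centralizer {x} = zpowers x) → p ∣ orderOf g → orderOf g = p :=
    fun p hp e => by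
      have h4 := orderOf_pow_orderOf_div (orderOf_pos g).ne' e
      have h5 : g ∈ centralizer {g ^ (orderOf g / p)} := mem_centralizer_singleton_iff.2 (Commute.self_pow g _)
      rw [hp _ h4] at h5
      exact Nat.dvd_antisymm (h4 ▸ orderOf_dvd_of_mem_zpowers h5) e
  by_cases h3 : 3 ∣ orderOf g
  · exact Or.inl (key 3 (fun _ => C3 h) h3)
  by_cases h7 : 7 ∣ orderOf g
  · exact Or.inr (Or.inl (key 7 (fun _ => C7 h) h7))
  refine Or.inr (Or.inr (Nat.Coprime.dvd_of_dvd_mul_right (k := orderOf g) (n := 3 * 7) ?_ (by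
    simpa [h] using orderOf_dvd_natCard g)))
  exact Nat.Coprime.mul_right ((Nat.Prime.coprime_iff_not_dvd Nat.prime_three).2 h3).symm
    ((Nat.Prime.coprime_iff_not_dvd f7.out).2 h7).symm

theorem C2 {t : G} (ht : t ≠ 1) (h2 : orderOf t ∣ 8) : IsPGroup 2 (centralizer ({t} : Set G)) := fun g => by
  have key : ∀ p, p.Coprime 8 → (∀ x : G, orderOf x = p → centralizer {x} = zpowers x) → orderOf g.1 ≠ p :=
    fun p hp hc e => by
      have h5 : t ∈ centralizer {g.1} := mem_centralizer_singleton_iff.2 (mem_centralizer_singleton_iff.1 g.2).symm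
      rw [hc _ e] at h5
      exact ht (orderOf_eq_one_iff.1 (Nat.eq_one_of_dvd_coprimes hp (e ▸ orderOf_dvd_of_mem_zpowers h5) h2))
  have := ((ord1 h g.1).resolve_left (key 3 (by norm_num) fun _ => C3 h)).resolve_left
    (key 7 (by norm_num) fun _ => C7 h)
  exact ⟨3, Subtype.ext (orderOf_dvd_iff_pow_eq_one.1 this)⟩

theorem n2 : Nat.card (Sylow 2 G) = 21 := by
  have h1 := card_sylow_dvd (G := G) (p := 2) (a := 3) (m := 21) (by rw [h]; norm_num) (by norm_num)
  have h3 := two_mul_card_dvd_factorial_sylow (p := 2) (nc h) (by rw [h]; norm_num)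
  rw [h] at h3
  have h4 := (Nat.Prime.dvd_factorial (by norm_num)).1 ((show 7 ∣ 2 * 168 by norm_num).trans h3)
  have h5 : Nat.card (Sylow 2 G) ≠ 7 := fun e => by
    obtain ⟨P⟩ := (Sylow.nonempty : Nonempty (Sylow 2 G))
    have h6 := card_sylow_mul P
    rw [e, h] at h6
    obtain ⟨y, hy, hy3⟩ := exists_mem_orderOf_prime (normalizer ((P : Subgroup G) : Set G)) Nat.prime_three (by omega)
    have h7 := card_modEq_cent (r := 3) (P : Subgroup G) hy (IsPGroup.of_card (n := 1) (by rw [Nat.card_zpowers, hy3]; rfl))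
    rw [C3 h hy3, (IsPGroup.disjoint_of_ne 2 3 (by norm_num) _ _ P.isPGroup'
      (IsPGroup.of_card (n := 1) (by rw [Nat.card_zpowers, hy3]; rfl))).eq_bot, card_bot, c2 h P] at h7
    exact absurd h7 (by decide)
  have := Nat.le_of_dvd (by norm_num) h1
  generalize Nat.card (Sylow 2 G) = n at *
  interval_cases n <;> omega

theorem N2 (P : Sylow 2 G) : normalizer ((P : Subgroup G) : Set G) = P := by
  have := card_sylow_mul P
  rw [n2 h, h] at this
  exact (eq_of_le_of_card_ge le_normalizer (by rw [c2 h P]; omega)).symm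

theorem Cz (T : Sylow 2 G) {z : G} (hz : z ∈ (T : Subgroup G)) (h1 : z ≠ 1)
    (hc : ∀ t ∈ (T : Subgroup G), t * z = z * t) : centralizer {z} = (T : Subgroup G) :=
  T.is_maximal' (C2 h h1 (c2 h T ▸ Subgroup.orderOf_dvd_natCard _ hz))
    fun t ht => mem_centralizer_singleton_iff.2 (hc t ht)

theorem o3 : {g : G | orderOf g = 3}.ncard = 56 := by
  obtain ⟨Q⟩ := (Sylow.nonempty : Nonempty (Sylow 3 G))
  rw [ncard_orderOf_prime Q (c3 h Q), n3 h]

theorem o7 : {g : G | orderOf g = 7}.ncard = 48 := by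
  obtain ⟨Q⟩ := (Sylow.nonempty : Nonempty (Sylow 7 G))
  rw [ncard_orderOf_prime Q (c7 h Q), n7 h]

theorem dih (T : Sylow 2 G) : Nonempty ((T : Subgroup G) ≃* DihedralGroup 4) := by
  suffices ∃ T : Sylow 2 G, Nonempty ((T : Subgroup G) ≃* DihedralGroup 4) by
    obtain ⟨T', ⟨e⟩⟩ := this
    exact ⟨(T.equiv T').trans e⟩
  by_contra hc
  push Not at hc
  have key : ∀ T : Sylow 2 G, ∀ z ∈ (T : Subgroup G), orderOf z = 2 → centralizer {z} = (T : Subgroup G) := by
    intro T z hz h2
    refine Cz h T hz (fun e => by simp [e] at h2) fun t ht => ?_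
    by_contra h3
    have h4 : Nat.card (centralizer ({⟨z, hz⟩} : Set (T : Subgroup G))) = 4 := by
      set C := centralizer ({⟨z, hz⟩} : Set (T : Subgroup G))
      have h5 : C ≠ ⊤ := fun e => h3 (congrArg Subtype.val (mem_centralizer_singleton_iff.1
        (show (⟨t, ht⟩ : (T : Subgroup G)) ∈ C from e ▸ mem_top _)))
      have h6 := Core.card_lt_of_ne_top C h5
      have h7 := C.card_subgroup_dvd_card
      haveI : Nontrivial (T : Subgroup G) := Finite.one_lt_card_iff_nontrivial.1 (by rw [c2 h T]; norm_num)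
      haveI := T.isPGroup'.center_nontrivial
      have h8 : center (T : Subgroup G) < C := lt_of_le_of_ne (center_le_centralizer _) fun e => h3 (congrArg Subtype.val
        (mem_center_iff.1 (show (⟨z, hz⟩ : (T : Subgroup G)) ∈ center _ from e ▸ mem_centralizer_singleton_iff.2 rfl) ⟨t, ht⟩))
      have h9 := Core.card_lt_of_lt h8
      have h10 : 1 < Nat.card (center (T : Subgroup G)) := Finite.one_lt_card
      rw [c2 h T] at h6 h7
      generalize Nat.card C = n at *
      interval_cases n <;> omega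
    rcases Cfsg.Agent.S3224.result T.isPGroup' ⟨z, hz⟩ ((orderOf_coe _).symm.trans h2) h4 with ⟨n, ⟨e⟩⟩ | ⟨n, k1, k2, -⟩ | k
    · have := Nat.card_congr e.toEquiv
      rw [c2 h T, DihedralGroup.nat_card] at this
      obtain rfl : n = 4 := by omega
      exact (hc T).false e
    · rw [c2 h T] at k2
      have := Nat.pow_le_pow_right two_pos (show 4 ≤ n + 1 by omega)
      omega
    · rw [c2 h T] at k; omega
  have h1 := ncard_eq_mul_of_fibers (G := G) (p := 2) {g : G | g ≠ 1 ∧ orderOf g ∣ 8} (Set.toFinite _)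
    (fun x Q => x ∈ (Q : Subgroup G)) (k := 7) (fun x hx => by
      obtain ⟨k, -, hk⟩ := (Nat.dvd_prime_pow Nat.prime_two (m := 3)).1 hx.2
      obtain ⟨Q, hQ⟩ := exists_sylow_mem hk
      refine ⟨Q, hQ, fun R hR => Sylow.ext ?_⟩
      have h2 : orderOf (x ^ (orderOf x / 2)) = 2 := orderOf_pow_orderOf_div (orderOf_pos x).ne' (by
        rcases k with _ | k
        · exact absurd (orderOf_eq_one_iff.1 hk) hx.1
        · exact hk ▸ dvd_pow_self 2 k.succ_ne_zero)
      exact (key R _ (pow_mem hR _) h2).symm.trans (key Q _ (pow_mem hQ _) h2)) (fun Q => by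
      have h2 : {x | x ∈ {g : G | g ≠ 1 ∧ orderOf g ∣ 8} ∧ x ∈ (Q : Subgroup G)} = ((Q : Subgroup G) : Set G) \ {1} := by
        ext x
        exact ⟨fun hx => ⟨hx.2, hx.1.1⟩, fun hx => ⟨⟨hx.2, c2 h Q ▸ Subgroup.orderOf_dvd_natCard _ hx.1⟩, hx.1⟩⟩
      rw [h2, Set.ncard_diff_singleton_of_mem (one_mem _), ← Nat.card_coe_set_eq]
      exact congrArg (· - 1) (c2 h Q))
  have h2 := Set.ncard_union_eq (s := {g : G | g ≠ 1 ∧ orderOf g ∣ 8}) (t := {g : G | orderOf g = 7})
    (Set.disjoint_left.2 fun g h1 h2 => by have := h1.2; rw [show orderOf g = 7 from h2] at this; omega)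
  have h3 := Set.ncard_le_card ({g : G | g ≠ 1 ∧ orderOf g ∣ 8} ∪ {g : G | orderOf g = 7})
  rw [h2, h1, n2 h, o7 h, h] at h3
  omega

theorem ord (g : G) : orderOf g = 1 ∨ orderOf g = 2 ∨ orderOf g = 3 ∨ orderOf g = 4 ∨ orderOf g = 7 := by
  rcases ord1 h g with k | k | k
  · tauto
  · tauto
  obtain ⟨k, -, hk⟩ := (Nat.dvd_prime_pow Nat.prime_two (m := 3)).1 k
  obtain ⟨Q, hQ⟩ := exists_sylow_mem hk
  obtain ⟨e⟩ := dih h Q
  have h1 : e ⟨g, hQ⟩ ^ 4 = 1 := (by decide : ∀ a : DihedralGroup 4, a ^ 4 = 1) _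
  rw [← map_pow, map_eq_one_iff e e.injective] at h1
  have h2 : orderOf g ∣ 4 := orderOf_dvd_of_pow_eq_one (congrArg Subtype.val h1)
  have := Nat.le_of_dvd (by norm_num) h2
  generalize orderOf g = n at *
  interval_cases n <;> omega

theorem C4 {x : G} (hx : orderOf x = 4) : Nat.card (centralizer ({x} : Set G)) = 4 := by
  obtain ⟨Q, hQ⟩ := (C2 h (t := x) (fun e => by simp [e] at hx) (by rw [hx]; norm_num)).exists_le_sylow
  have h1 : x ∈ centralizer {x} := mem_centralizer_singleton_iff.2 rfl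
  have h2 := card_dvd_of_le hQ
  have h3 := hx ▸ Subgroup.orderOf_dvd_natCard _ h1
  have h4 : Nat.card (centralizer ({x} : Set G)) ≠ 8 := fun k => by
    have h5 := eq_of_le_of_card_ge hQ (by rw [k, c2 h Q])
    obtain ⟨e⟩ := dih h Q
    have h6 : e ⟨x, hQ h1⟩ ^ 2 = 1 := (by decide : ∀ a : DihedralGroup 4, (∀ b, b * a = a * b) → a ^ 2 = 1) _ fun b => by
      obtain ⟨b, rfl⟩ := e.surjective b
      rw [← map_mul, ← map_mul]
      exact congrArg e (Subtype.ext (mem_centralizer_singleton_iff.1 (h5.ge b.2)))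
    rw [← map_pow, map_eq_one_iff e e.injective] at h6
    have : orderOf x ∣ 2 := orderOf_dvd_of_pow_eq_one (congrArg Subtype.val h6)
    rw [hx] at this; omega
  rw [c2 h Q] at h2
  have := Nat.le_of_dvd (by norm_num) h2
  generalize Nat.card (centralizer ({x} : Set G)) = n at *
  interval_cases n <;> omega

theorem o24 : ∃ z x : G, ∃ T : Sylow 2 G, centralizer {z} = (T : Subgroup G) ∧
    {g : G | orderOf g = 2} = {g | IsConj z g} ∧ {g : G | orderOf g = 4} = {g | IsConj x g} ∧
    {g : G | orderOf g = 2}.ncard = 21 ∧ {g : G | orderOf g = 4}.ncard = 42 := by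
  classical
  obtain ⟨T⟩ := (Sylow.nonempty : Nonempty (Sylow 2 G))
  obtain ⟨e⟩ := dih h T
  have hz : orderOf (e.symm (DihedralGroup.r 2)).1 = 2 := by
    rw [orderOf_coe, e.symm.orderOf_eq]; exact orderOf_eq_prime (by decide) (by decide)
  have hx : orderOf (e.symm (DihedralGroup.r 1)).1 = 4 := by
    rw [orderOf_coe, e.symm.orderOf_eq, DihedralGroup.orderOf_r_one]
  have h1 := Cz h T (e.symm (DihedralGroup.r 2)).2 (fun k => by rw [k] at hz; simp at hz) fun t ht => by
    obtain ⟨b, hb⟩ := e.symm.surjective ⟨t, ht⟩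
    rw [show t = (e.symm b).1 from (congrArg Subtype.val hb).symm, ← coe_mul, ← coe_mul, ← map_mul, ← map_mul,
      (by decide : ∀ b : DihedralGroup 4, b * DihedralGroup.r 2 = DihedralGroup.r 2 * b)]
  set z := (e.symm (DihedralGroup.r 2)).1
  set x := (e.symm (DihedralGroup.r 1)).1
  have h2 := ncard_cl z
  have h3 := ncard_cl x
  rw [h1, c2 h T, h] at h2
  rw [C4 h hx, h] at h3
  have h4 : {g | IsConj z g} ⊆ {g : G | orderOf g = 2} := fun g hg => (orderOf_conj hg).trans hz
  have h5 : {g | IsConj x g} ⊆ {g : G | orderOf g = 4} := fun g hg => (orderOf_conj hg).trans hx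
  have h6 := Set.ncard_le_ncard h4
  have h7 := Set.ncard_le_ncard h5
  have := Fintype.ofFinite G
  have h8 := Finset.card_eq_sum_card_fiberwise (f := fun g : G => orderOf g) (s := Finset.univ) (t := {1, 2, 3, 4, 7})
    fun g _ => by simpa using ord h g
  have h9 : ∀ n, (Finset.univ.filter fun g : G => orderOf g = n).card = {g : G | orderOf g = n}.ncard := fun n => by
    rw [← Set.ncard_coe_finset]; simp
  have h10 : {g : G | orderOf g = 1}.ncard = 1 := by simp
  rw [Finset.card_univ, ← Nat.card_eq_fintype_card, h] at h8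
  simp only [h9] at h8
  rw [Finset.sum_insert (by decide), Finset.sum_insert (by decide), Finset.sum_insert (by decide),
    Finset.sum_insert (by decide), Finset.sum_singleton, h10, o3 h, o7 h] at h8
  exact ⟨z, x, T, h1, (Set.eq_of_subset_of_ncard_le h4 (by omega)).symm,
    (Set.eq_of_subset_of_ncard_le h5 (by omega)).symm, by omega, by omega⟩

end Cfsg.Agent.Fil.O168
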