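import Mathlib
import Cfsg.Agent.Fil.D
import Cfsg.Agent.S0144
import Cfsg.Agent.Core.MinNormal

set_option autoImplicit false

namespace Cfsg.Agent.Fil.O168

open Subgroup Cfsg.Agent.Perm DihedralGroup
open scoped Pointwise

theorem kl_congr {A B : Type*} [Group A] [Group B] (e : A ≃* B) (h : IsKleinFour A) : IsKleinFour B :=
  ⟨(Nat.card_congr e.toEquiv).symm.trans h.card_four, (Monoid.exponent_eq_of_mulEquiv e).symm.trans h.exponent_two⟩

def V (i : ZMod 4) : Subgroup (DihedralGroup 4) where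
  carrier := {x | x = r 0 ∨ x = r 2 ∨ x = sr i ∨ x = sr (i + 2)}
  one_mem' := Or.inl rfl
  mul_mem' := fun {a b} => by simp only [Set.mem_setOf_eq]; revert i a b; decide
  inv_mem' := fun {a} => by simp only [Set.mem_setOf_eq]; revert i a; decide

instance (i : ZMod 4) : DecidablePred (· ∈ V i) := fun x =>
  inferInstanceAs (Decidable (x = r 0 ∨ x = r 2 ∨ x = sr i ∨ x = sr (i + 2)))

theorem V_kl (i : ZMod 4) : IsKleinFour (V i) := by
  refine ⟨by rw [Nat.card_eq_fintype_card]; revert i; decide, ?_⟩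
  haveI : Nontrivial (V i) := ⟨⟨1, ⟨r 2, Or.inr (Or.inl rfl)⟩, fun e =>
    (by decide : (1 : DihedralGroup 4) ≠ r 2) (congrArg Subtype.val e)⟩⟩
  exact (Monoid.exponent_eq_prime_iff Nat.prime_two).2 fun g hg => orderOf_eq_prime
    (Subtype.ext ((by decide : ∀ i, ∀ g ∈ V i, g ^ 2 = 1) i g g.2)) hg

theorem V_all (U : Subgroup (DihedralGroup 4)) (h : IsKleinFour U) : U = V 0 ∨ U = V 1 := by
  classical
  have key : ∀ s : Finset (DihedralGroup 4), s.card = 4 → (∀ a ∈ s, a * a = 1) → (∀ a ∈ s, ∀ b ∈ s, a * b ∈ s) →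
      (∀ a, a ∈ s ↔ a ∈ V 0) ∨ (∀ a, a ∈ s ↔ a ∈ V 1) := by decide +kernel
  have := key (Finset.univ.filter (· ∈ U)) (by rw [← Fintype.card_subtype, ← Nat.card_eq_fintype_card, h.card_four])
    (fun a ha => congrArg Subtype.val (IsKleinFour.mul_self (⟨a, by simpa using ha⟩ : U)))
    (fun a ha b hb => by simpa using U.mul_mem (by simpa using ha) (by simpa using hb))
  exact this.imp (fun k => Subgroup.ext fun a => by simpa using k a) fun k => Subgroup.ext fun a => by simpa using k a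

variable {G : Type*} [Group G] [Finite G] [IsSimpleGroup G] (h : Nat.card G = 168)
include h

theorem two_kl (T : Sylow 2 G) : ∃ U W : Subgroup G, U ≠ W ∧ U ≤ T ∧ W ≤ T ∧ IsKleinFour U ∧ IsKleinFour W ∧
    ∀ X : Subgroup G, X ≤ T → IsKleinFour X → X = U ∨ X = W := by
  obtain ⟨e⟩ := dih h T
  let f : DihedralGroup 4 →* G := (T : Subgroup G).subtype.comp e.symm.toMonoidHom
  have hf : Function.Injective f := Subtype.val_injective.comp e.symm.injective
  have hr : ∀ i, (V i).map f ≤ T := by rintro i _ ⟨x, -, rfl⟩; exact (e.symm x).2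
  refine ⟨(V 0).map f, (V 1).map f, fun k => ?_, hr 0, hr 1, kl_congr ((V 0).equivMapOfInjective f hf) (V_kl 0),
    kl_congr ((V 1).equivMapOfInjective f hf) (V_kl 1), fun X hX k => ?_⟩
  · have : sr 0 ∈ V 1 := map_injective hf k ▸ (by decide : sr 0 ∈ V 0)
    revert this; decide
  · have h1 : (X.comap f).map f = X := map_comap_eq_self fun x hx => ⟨e ⟨x, hX hx⟩, by simp [f]⟩
    have := V_all (X.comap f) (kl_congr ((X.comap f).equivMapOfInjective f hf).symm (h1.symm ▸ k))
    exact this.imp (fun k => by rw [← k, h1]) fun k => by rw [← k, h1]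

omit [IsSimpleGroup G] in
theorem le_N (T : Sylow 2 G) {U : Subgroup G} (hU : U ≤ T) (k : IsKleinFour U) :
    (T : Subgroup G) ≤ normalizer (U : Set G) := by
  have := Core.card_mul_relIndex hU
  rw [k.card_four, c2 h T] at this
  exact (normal_subgroupOf_iff_le_normalizer hU).1 (normal_of_index_eq_two (by unfold relIndex at this; omega))

theorem not_conj (T : Sylow 2 G) {U W : Subgroup G} (hU : U ≤ T) (hW : W ≤ T) (k1 : IsKleinFour U)
    (k2 : IsKleinFour W) (g : G) (e : U.map (MulAut.conj g).toMonoidHom = W) : U = W := by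
  have h1 := le_N h T hW k2
  have h2 : ((g • T : Sylow 2 G) : Subgroup G) ≤ normalizer (W : Set G) := le_N h _ (e ▸ map_mono hU) k2
  obtain ⟨n, hn⟩ := MulAction.exists_smul_eq (normalizer (W : Set G)) ((g • T).subtype h2) (T.subtype h1)
  rw [Sylow.smul_subtype] at hn
  have h3 : (n.1 * g) • T = T := by rw [mul_smul]; exact Sylow.subtype_injective hn
  have h4 := Sylow.smul_eq_iff_mem_normalizer.1 h3
  rw [show normalizer (T : Set G) = _ from N2 h T] at h4
  obtain ⟨n, hn2⟩ := n
  dsimp only at h4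
  rw [← mem_normalizer_iff_map_conj_eq.1 (le_N h T hU k1 h4), ← mem_normalizer_iff_map_conj_eq.1 hn2, ← e, map_map]
  congr 1
  ext x; simp [mul_assoc]

theorem Cinv {u : G} (hu : orderOf u = 2) : ∃ T : Sylow 2 G, centralizer {u} = (T : Subgroup G) := by
  obtain ⟨z, -, -, -, h1, -, h2, -⟩ := o24 h
  obtain ⟨T, hT⟩ := (C2 h (t := u) (fun e => by simp [e] at hu) (by rw [hu]; norm_num)).exists_le_sylow
  have h3 := ncard_cl u
  have : {g | IsConj u g} = {g | IsConj z g} := Set.ext fun g =>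
    ⟨fun k => (show IsConj z u from h1.le hu).trans k, fun k => (show IsConj z u from h1.le hu).symm.trans k⟩
  rw [this, ← h1, h2, h] at h3
  exact ⟨T, eq_of_le_of_card_ge hT (by rw [c2 h T]; omega)⟩

theorem big (H : Subgroup G) (hH : H ≠ ⊤) : Nat.card H ≤ 24 ∧ Nat.card H ∣ 168 := by
  have h1 := idx h H hH
  have h2 := H.card_mul_index
  rw [h] at h2
  exact ⟨by nlinarith, Dvd.intro _ h2⟩

theorem NU {U : Subgroup G} (k : IsKleinFour U) : Nat.card (normalizer (U : Set G)) = 24 := by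
  haveI := k.isMulCommutative
  have hU1 : U ≠ ⊥ := fun e => by have := k.card_four; simp [e] at this
  have hU2 : U ≠ ⊤ := fun e => by have := k.card_four; simp [e, h] at this
  obtain ⟨h1, h2⟩ := big h _ (normalizer_ne_top hU1 hU2)
  have key : ∀ u : U, u ≠ 1 → ∃ T : Sylow 2 G, centralizer {u.1} = (T : Subgroup G) ∧ U ≤ T := fun u hu => by
    obtain ⟨T, hT⟩ := Cinv h (u := u.1) (orderOf_eq_prime (by
      rw [sq]; exact congrArg Subtype.val (IsKleinFour.mul_self u)) fun e => hu (Subtype.ext e))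
    exact ⟨T, hT, fun x hx => hT ▸ mem_centralizer_singleton_iff.2 (congrArg Subtype.val (mul_comm' (⟨x, hx⟩ : U) u))⟩
  haveI : Nontrivial U := (nontrivial_iff_ne_bot U).2 hU1
  obtain ⟨u, hu⟩ := exists_ne (1 : U)
  obtain ⟨T, hT, hUT⟩ := key u hu
  have h3 := card_dvd_of_le (le_N h T hUT k)
  have h4 : Nat.card (normalizer (U : Set G)) ≠ 8 := fun e => by
    obtain ⟨e'⟩ := dih h T
    have h5 : ∀ v : U, ∀ b, b * e' ⟨v, hUT v.2⟩ = e' ⟨v, hUT v.2⟩ * b := fun v b => by
      by_cases hv : v = 1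
      · rw [show (⟨v, hUT v.2⟩ : (T : Subgroup G)) = 1 from Subtype.ext (congrArg Subtype.val hv :)]; simp
      obtain ⟨T', hT', hUT'⟩ := key v hv
      have h6 := (eq_of_le_of_card_ge (le_N h T hUT k) (by rw [e, c2 h T])).trans
        (eq_of_le_of_card_ge (le_N h T' hUT' k) (by rw [e, c2 h T'])).symm
      obtain ⟨b, rfl⟩ := e'.surjective b
      rw [← map_mul, ← map_mul]
      exact congrArg e' (Subtype.ext (mem_centralizer_singleton_iff.1 ((h6.trans hT'.symm).le b.2)))
    have h6 := Nat.card_le_card_of_injective (fun v : U => (⟨e' ⟨v, hUT v.2⟩, h5 v⟩ :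
      {a : DihedralGroup 4 // ∀ b, b * a = a * b})) fun a b e =>
        Subtype.ext (congrArg Subtype.val (e'.injective (congrArg Subtype.val e)) :)
    rw [k.card_four, Nat.card_eq_fintype_card] at h6
    revert h6; decide
  rw [c2 h T] at h3
  generalize Nat.card (normalizer (U : Set G)) = n at *
  interval_cases n <;> omega

theorem NU_iso {U : Subgroup G} (k : IsKleinFour U) : Nonempty (normalizer (U : Set G) ≃* Equiv.Perm (Fin 4)) :=
  Cfsg.Agent.S1012.result (NU h k) fun g e => by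
    have := ord h g.1
    rw [orderOf_coe, e] at this; omega

omit h [Finite G] [IsSimpleGroup G] in
theorem kl_conj {U : Subgroup G} (k : IsKleinFour U) (g : G) : IsKleinFour (U.map (MulAut.conj g).toMonoidHom) :=
  kl_congr (U.equivMapOfInjective _ (MulAut.conj g).injective) k

theorem N3_le (P : Sylow 3 G) : ∃ U : Subgroup G, IsKleinFour U ∧
    normalizer ((P : Subgroup G) : Set G) ≤ normalizer (U : Set G) := by
  obtain ⟨T⟩ := (Sylow.nonempty : Nonempty (Sylow 2 G))
  obtain ⟨U, -, -, -, -, k, -⟩ := two_kl h T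
  obtain ⟨y, hy, hy3⟩ := exists_mem_orderOf_prime (normalizer (U : Set G)) Nat.prime_three (by rw [NU h k]; norm_num)
  obtain ⟨Q, hQ⟩ := sylow_of_order (c3 h) hy3
  have hle : (Q : Subgroup G) ≤ normalizer (U : Set G) := hQ ▸ zpowers_le.2 hy
  have h1 := card_sylow_mul (Q.subtype hle)
  have h2 := card_sylow_modEq_one 3 (normalizer (U : Set G))
  have h3 := card_sylow_dvd (G := normalizer (U : Set G)) (p := 3) (a := 1) (m := 8) (by rw [NU h k]; rfl) (by norm_num)
  rw [NU h k, Sylow.coe_subtype, ← subgroupOf_normalizer_eq hle, Core.card_subgroupOf] at h1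
  have h4 := card_le_of_le (inf_le_left : normalizer ((Q : Subgroup G) : Set G) ⊓ normalizer (U : Set G) ≤ _)
  have h5 : normalizer ((Q : Subgroup G) : Set G) ≤ normalizer (U : Set G) := by
    refine inf_eq_left.1 (eq_of_le_of_card_ge inf_le_left ?_)
    rw [N3 h Q] at h4 ⊢
    have := Nat.le_of_dvd (by norm_num) h3
    generalize Nat.card (Sylow 3 (normalizer (U : Set G))) = n at *
    unfold Nat.ModEq at h2
    interval_cases n <;> omega
  obtain ⟨g, rfl⟩ := MulAction.exists_smul_eq G Q P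
  refine ⟨_, kl_conj k g, ?_⟩
  rw [← map_equiv_normalizer_eq]
  exact (map_equiv_normalizer_eq (Q : Subgroup G) (MulAut.conj g)).ge.trans (map_mono h5)

theorem proper (H : Subgroup G) (hH : H ≠ ⊤) : (∃ P : Sylow 7 G, H ≤ normalizer ((P : Subgroup G) : Set G)) ∨
    ∃ U : Subgroup G, IsKleinFour U ∧ H ≤ normalizer (U : Set G) := by
  by_cases h0 : H = ⊥
  · exact Or.inl ⟨Sylow.nonempty.some, h0 ▸ bot_le⟩
  obtain ⟨h1, h2⟩ := big h H hH
  have hs : Group.IsSolvable H := by
    obtain ⟨n, h3, a, b, h4⟩ : ∃ n, Nat.card H = n ∧ ∃ a b : Fin 4, n = 2 ^ a.1 * 3 ^ b.1 ∨ n = 2 ^ a.1 * 7 ^ b.1 ∨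
        n = 3 ^ a.1 * 7 ^ b.1 := ⟨_, rfl, by
      generalize Nat.card H = n at *
      interval_cases n <;> first | omega | decide⟩
    rcases h4 with rfl | rfl | rfl
    exacts [Cfsg.Agent.S0144.result _ _ _ _ f2.out f3.out h3, Cfsg.Agent.S0144.result _ _ _ _ f2.out f7.out h3,
      Cfsg.Agent.S0144.result _ _ _ _ f3.out f7.out h3]
  obtain ⟨E, p, h3, h4, h5, hp, ⟨hc, he⟩, -⟩ := Core.exists_minimal_invariant_elementary_le H H le_normalizer hs h0
  have hE : IsPGroup p E := Core.IsElementaryAbelian.isPGroup ⟨hc, he⟩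
  haveI := Fact.mk hp
  have h6 := (Core.prime_dvd_card_of_isPGroup hE h4)
  have h7 : p = 2 ∨ p = 3 ∨ p = 7 := by
    have h8 : p ∣ 2 ^ 3 * 3 * 7 := h6.trans ((card_dvd_of_le h5).trans h2)
    rcases (hp.dvd_mul).1 h8 with k | k
    · rcases (hp.dvd_mul).1 k with k | k
      · exact Or.inl ((Nat.prime_dvd_prime_iff_eq hp Nat.prime_two).1 (hp.dvd_of_dvd_pow k))
      · exact Or.inr (Or.inl ((Nat.prime_dvd_prime_iff_eq hp Nat.prime_three).1 k))
    · exact Or.inr (Or.inr ((Nat.prime_dvd_prime_iff_eq hp f7.out).1 k))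
  obtain ⟨P, hP⟩ := hE.exists_le_sylow
  rcases h7 with rfl | rfl | rfl
  · right
    have hexp : ∀ g : E, g ≠ 1 → orderOf g = 2 := fun g hg => orderOf_eq_prime (Subtype.ext (he g g.2)) hg
    have h8 := card_dvd_of_le hP
    rw [c2 h P] at h8
    by_cases k2 : Nat.card E = 2
    · obtain ⟨t, ht, rfl⟩ := exists_zpowers_eq_of_card_prime E k2
      obtain ⟨T, hT⟩ := Cinv h ht
      obtain ⟨U, -, -, k1, -, k, -⟩ := two_kl h T
      refine ⟨U, k, le_trans (fun g hg => hT ▸ mem_centralizer_singleton_iff.2 ?_) (le_N h T k1 k)⟩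
      obtain ⟨y, -, hy⟩ := (Nat.card_eq_two_iff' (1 : zpowers t)).1 k2
      have ht1 : t ≠ 1 := fun e => by simp [e] at ht
      exact mul_inv_eq_iff_eq_mul.1 (congrArg Subtype.val ((hy ⟨_, Core.conj_mem_of_le_normalizer h3 hg (mem_zpowers t)⟩
        fun e => ht1 (by simpa using e)).trans (hy ⟨t, mem_zpowers t⟩ fun e => ht1 (by simpa using e)).symm))
    by_cases k8 : Nat.card E = 8
    · obtain ⟨e⟩ := dih h P
      obtain rfl := eq_of_le_of_card_ge hP (by rw [k8, c2 h P])
      have : e.symm (r 1) ^ 2 = 1 := Subtype.ext (he _ (e.symm (r 1)).2)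
      rw [← map_pow, map_eq_one_iff _ e.symm.injective] at this
      exact absurd this (by decide)
    haveI : Nontrivial E := (nontrivial_iff_ne_bot E).2 h4
    refine ⟨E, ⟨?_, (Monoid.exponent_eq_prime_iff Nat.prime_two).2 hexp⟩, h3⟩
    have := Nat.le_of_dvd (by norm_num) h8
    generalize Nat.card E = n at *
    interval_cases n <;> omega
  · obtain ⟨U, k, hU⟩ := N3_le h P
    obtain rfl := eq_of_le_of_card_ge hP (by rw [c3 h P]; exact Nat.le_of_dvd Nat.card_pos h6)
    exact Or.inr ⟨U, k, h3.trans hU⟩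
  · obtain rfl := eq_of_le_of_card_ge hP (by rw [c7 h P]; exact Nat.le_of_dvd Nat.card_pos h6)
    exact Or.inl ⟨P, h3⟩

theorem coatom_cases {M : Subgroup G} (hM : IsCoatom M) : (∃ P : Sylow 7 G, M = normalizer ((P : Subgroup G) : Set G)) ∨
    ∃ U : Subgroup G, IsKleinFour U ∧ M = normalizer (U : Set G) := by
  refine (proper h M hM.1).imp (fun ⟨P, k⟩ => ⟨P, (hM.le_iff.1 k).resolve_left (fun e => ?_) |>.symm⟩)
    fun ⟨U, k1, k⟩ => ⟨U, k1, (hM.le_iff.1 k).resolve_left (fun e => ?_) |>.symm⟩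
  · have := N7 h P; rw [e, card_top, h] at this; omega
  · have := NU h k1; rw [e, card_top, h] at this; omega

theorem coatom_NU {U : Subgroup G} (k : IsKleinFour U) : IsCoatom (normalizer (U : Set G)) := by
  refine ⟨fun e => by have := NU h k; rw [e, card_top, h] at this; omega, fun H hH => ?_⟩
  by_contra hc
  have := Core.card_lt_of_lt hH
  have := (big h H hc).1
  rw [NU h k] at *; omega

theorem NU_inj {U W : Subgroup G} (k1 : IsKleinFour U) (k2 : IsKleinFour W)
    (e : normalizer (U : Set G) = normalizer (W : Set G)) : U = W := by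
  obtain ⟨T, hT⟩ := (IsPGroup.of_card (p := 2) (n := 2) k1.card_four).exists_le_sylow
  have h1 : (T : Subgroup G) ≤ normalizer (W : Set G) := e ▸ le_N h T hT k1
  have h2 : W ≤ T := by
    have h3 := T.isPGroup'.to_sup_of_normal_right' (IsPGroup.of_card (p := 2) (n := 2) k2.card_four) h1
    exact le_sup_right.trans (T.is_maximal' h3 le_sup_left).le
  by_contra hc
  have h3 : U ⊔ W = T := by
    refine eq_of_le_of_card_ge (sup_le hT h2) ?_
    have h4 := Core.card_lt_of_lt (left_lt_sup.2 fun k => hc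
      (eq_of_le_of_card_ge k (by rw [k1.card_four, k2.card_four])).symm : U < U ⊔ W)
    have h5 := card_dvd_of_le (sup_le hT h2)
    rw [c2 h T, k1.card_four] at *
    have := Nat.le_of_dvd (by norm_num) h5
    generalize Nat.card ↥(U ⊔ W) = n at *
    interval_cases n <;> omega
  have h4 : normalizer (U : Set G) ≤ normalizer ((T : Subgroup G) : Set G) :=
    h3 ▸ Core.le_normalizer_sup le_rfl e.le
  have := card_le_of_le h4
  rw [N2 h T, NU h k1, c2 h T] at this; omega

end Cfsg.Agent.Fil.O168
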