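import Mathlib
import Cfsg.Agent.GsC.Alm
import Cfsg.Agent.FGS.Walter
import Cfsg.Agent.Push.PSL
import Cfsg.Agent.PGrp.CyclicTwo
import Cfsg.Agent.BG.Quo
import Cfsg.Agent.H2.Schur6

/-! Groups with central Sylow 2-intersections. -/

set_option autoImplicit false
set_option linter.unusedSectionVars false

namespace Cfsg.Agent.Fil

open Subgroup Cfsg.Agent.GW Cfsg.Agent.LocalEven Cfsg.Agent.BG Cfsg.Agent.Gs Cfsg.Agent.GsC
open scoped commutatorElement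

variable {G : Type*} [Group G] [Finite G] {S T U D L L' P O : Subgroup G}

/-- central Sylow intersections -/
def CI (G : Type*) [Group G] : Prop := ∀ S T : Subgroup G, IsSylowIn 2 S ⊤ → IsSylowIn 2 T ⊤ →
  S ≠ T → ∃ U, IsSylowIn 2 U ⊤ ∧ S ⊓ T ≤ U ∧ U ≤ 𝐂((S ⊓ T : Subgroup G))

theorem solv_of_norm (hT : IsSylowIn 2 T L) (hn : L ≤ 𝐍(T)) : Group.IsSolvable L := by
  haveI := QuoApi.normal_subgroupOf hn
  haveI := Core.solvable_of_isPGroup (isPGroup_subgroupOf (K := L) hT.pgrp)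
  haveI : Group.IsSolvable (L ⧸ T.subgroupOf L) := S0205.result (Nat.not_even_iff_odd.1
    fun e => hT.not_dvd (even_iff_two_dvd.1 e))
  exact Group.isSolvable_of_ker_le_range (T.subgroupOf L).subtype
    (QuotientGroup.mk' (T.subgroupOf L)) (by simp)

theorem cent_eq (hO : oOf (⊤ : Subgroup G) = ⊥) (hL : PC ⊤ L) {x l : G} (hx : x ∈ Cent L)
    (hl : l ∈ L) : x * l = l * x := by
  have := hL.oOf_le (hx.2 l hl)
  rw [hO, mem_bot, mul_inv_eq_one, mul_inv_eq_iff_eq_mul] at this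
  exact this

theorem not_le_Cent (hS : IsSylowIn 2 S ⊤) (hL : PC ⊤ L) : ¬ S ⊓ L ≤ Cent L := fun k => by
  have h1 := sylow_im le_normalizer (sylow_inf_sn hS hL.sn)
  rw [(im_eq_bot (inf_le_right.trans le_normalizer)).2 k] at h1
  exact h1.ne_bot (even_iff_two_dvd.1 (Nat.not_odd_iff_even.1 hL.as.not_odd)) rfl

namespace CI
variable (hC : CI G)
include hC

theorem two (hS : IsSylowIn 2 S ⊤) (hD : D ≤ S) {g : G} (h1 : D ≤ cj g S) (hg : g ∉ 𝐍(S)) :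
    ∃ U, IsSylowIn 2 U ⊤ ∧ D ≤ U ∧ U ≤ 𝐂(D) := by
  obtain ⟨U, h2, h3, h4⟩ := hC S _ hS (hS.cj_of_mem (mem_top g)) fun e => hg (cj_eq_self_iff.1 e.symm)
  exact ⟨U, h2, (le_inf hD h1).trans h3, h4.trans (cent_anti (le_inf hD h1))⟩

theorem k1 (hS : IsSylowIn 2 S ⊤) (hD : D ≤ S) (hn : S ≤ 𝐍(D)) : 𝐍(D) ≤ 𝐍(S) ∨ S ≤ 𝐂(D) := by
  refine (em _).imp id fun k => ?_
  obtain ⟨g, hg, hg'⟩ := SetLike.not_le_iff_exists.1 k
  obtain ⟨U, h1, -, h2⟩ := hC.two hS hD (cj_eq_of_mem_normalizer hg ▸ cj_mono g hD) hg'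
  have h3 := (hS.mono hn le_top).inf_of_le_normalizer (cent_le_norm' D)
    (normalizer_le_normalizer_centralizer D)
  rw [← eq_of_le_of_card_le (inf_le_left (a := S) (b := 𝐂(D)))
    ((hS.card_eq_card h1).le.trans (h3.card_le h2 h1.pgrp))]
  exact inf_le_right

theorem quot {Q : Type*} [Group Q] [Finite Q] (f : G →* Q) (hf : Function.Surjective f) : CI Q :=
  fun S T hS hT h => by
  obtain ⟨D, hD⟩ := exists_isSylowIn 2 ((S ⊓ T).comap f)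
  have k : ∀ U, IsSylowIn 2 U ⊤ → S ⊓ T ≤ U → ∃ P, IsSylowIn 2 P ⊤ ∧ D ≤ P ∧ P.map f = U :=
    fun U h1 hU => by
    obtain ⟨P, hP, h2⟩ := exists_isSylowIn_le hD.pgrp (hD.le.trans (comap_mono hU))
    exact ⟨P, hP.of_not_dvd_relIndex le_top (by
      rw [relIndex_top_right, index_comap_of_surjective _ hf, ← relIndex_top_right]
      exact h1.not_dvd), h2,
      (map_comap_eq_self_of_surjective hf U ▸ hP.map f).eq_of_isPGroup h1.pgrp⟩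
  obtain ⟨P, h0, h1, h2⟩ := k S hS inf_le_left
  obtain ⟨P', h0', h3, h4⟩ := k T hT inf_le_right
  obtain ⟨U, u1, u2, u3⟩ := hC P P' h0 h0' fun e => h (by rw [← h2, e, h4])
  have h5 := hD.map f
  rw [map_comap_eq_self_of_surjective hf] at h5
  rw [← h5.eq_of_isPGroup (hS.pgrp.to_le inf_le_left)]
  refine ⟨U.map f, map_top_of_surjective _ hf ▸ u1.map f, map_mono ((le_inf h1 h3).trans u2), ?_⟩
  rintro _ ⟨u, hu, rfl⟩ _ ⟨d, hd, rfl⟩
  rw [← map_mul, ← map_mul, u3 hu d ⟨h1 hd, h3 hd⟩]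

theorem sc (hS : IsSylowIn 2 S ⊤) : SC (OZ S) := by
  obtain ⟨S, rfl⟩ := hS.exists_sylow_top
  refine sc_OZ S fun T w hT hwS hwT hw hc hTw hD => ?_
  obtain ⟨U, hU, -, h2⟩ := hC S T hS (isSylowIn_top T) fun e => hT (Sylow.ext e.symm)
  have h1 : (S : Subgroup G) ⊓ T < S := lt_of_le_of_ne inf_le_left fun e =>
    hc (le_cz_iff.1 (e.symm.le.trans (inf_le_right.trans hTw)))
  obtain ⟨x, hx, hn, hx'⟩ := exists_mem_normalizer_of_lt S.isPGroup' h1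
  obtain ⟨k, hk⟩ := S.isPGroup' ⟨x, hx⟩
  obtain ⟨g, hg, h3⟩ := (hU.mono (h2.trans (cent_le_norm' _)) le_top).exists_conj_mem hn
    (congrArg Subtype.val hk)
  have h4 := (mem_normalizer_iff.1 (normalizer_le_normalizer_centralizer _ hg) x).2 (h2 h3)
  exact hx' (hD ▸ ⟨hx, cent_le_cz (⟨hwS, hwT⟩ : w ∈ (S : Subgroup G) ⊓ T) h4⟩)

variable (hO : oOf (⊤ : Subgroup G) = ⊥)
include hO

theorem cA (hS : IsSylowIn 2 S ⊤) (hL : PC ⊤ L) :
    ∃ U, IsSylowIn 2 U ⊤ ∧ S ⊓ Cent L ≤ U ∧ U ≤ 𝐂((S ⊓ Cent L : Subgroup G)) := by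
  obtain ⟨g, hg, hg'⟩ := SetLike.not_le_iff_exists.1
    (mt (solv_of_norm (sylow_inf_sn hS hL.sn)) hL.not_solvable)
  refine hC.two hS inf_le_left (g := g) (fun d hd => mem_cj.2 ?_) fun k => hg'
    (le_normalizer_inf (L := zpowers g) (zpowers_le.2 k) (zpowers_le.2 (le_normalizer hg))
      (mem_zpowers g))
  rw [mul_assoc, cent_eq hO hL hd.2 hg, inv_mul_cancel_left]
  exact hd.1

theorem cC (hS : IsSylowIn 2 S ⊤) (hL : PC ⊤ L) (h : S ≤ 𝐂((S ⊓ L : Subgroup G))) : S ≤ 𝐂(S) := by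
  obtain ⟨U, -, u1, u2⟩ := hC.cA hO hS hL
  obtain ⟨t, ht, htC⟩ := SetLike.not_le_iff_exists.1 (not_le_Cent hS hL)
  have hn : S ≤ 𝐍(L) := fun s hs => hL.mem_norm_of_cz (le_normalizer (mem_top s)) ht.2 htC
    (by rw [conj_eq_of_cent (h hs) ht]; exact ht.2)
  have hTn : S ⊓ L ≤ 𝐍(L) := inf_le_left.trans hn
  have dec : ∀ s ∈ S, ∃ u ∈ S ⊓ L, s * u⁻¹ ∈ S ⊓ Cent L := fun s hs => by
    obtain ⟨k, hk⟩ := isPGroup_iff_mem.1 hS.pgrp s hs
    obtain ⟨u, hu, e⟩ := (mem_im' hTn).1 (hL.as.two_inner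
      (sylow_im le_normalizer (sylow_inf_sn hS hL.sn)) (im_le_cent (inf_le_left.trans h)) (k := k)
      (by rw [← pr_pow (hn hs), hk, pr_one]) (pr_mem_cent (hn hs) (h hs)))
    exact ⟨u, hu, S.mul_mem hs (S.inv_mem hu.1), (pr_eq_iff (hn hs) (hTn hu)).1 e.symm⟩
  have h1 : S ≤ 𝐂((S ⊓ Cent L : Subgroup G)) := fun s hs => by
    obtain ⟨u, hu, e⟩ := dec s hs
    simpa using mul_mem (u2 (u1 e)) (cent_anti inf_le_left (le_cent_comm.1 h hu))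
  intro s hs
  obtain ⟨u, hu, e⟩ := dec s hs
  simpa using mul_mem (le_cent_comm.1 h1 e) (le_cent_comm.1 h hu)

theorem uniq (hn : ∀ U : Subgroup G, IsSylowIn 2 U ⊤ → ¬ U ≤ 𝐂(U)) (hL : PC ⊤ L) (hL' : PC ⊤ L') :
    L = L' := by
  by_contra k
  obtain ⟨S, hS⟩ := exists_isSylowIn 2 (⊤ : Subgroup G)
  obtain ⟨U, h1, h2, h3⟩ := hC.cA hO hS hL'
  have h4 : S ⊓ L ≤ S ⊓ Cent L' := inf_le_inf_left S (hL'.le_Cent_of_ne hL (Ne.symm k))
  refine hn U h1 (hC.cC hO h1 hL ?_)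
  rw [(sylow_inf_sn hS hL.sn).max _ inf_le_right h1.pgrp.to_inf_left
    (le_inf (h4.trans h2) inf_le_right)]
  exact h3.trans (cent_anti h4)

end CI

/-- The structure modulo the core. -/
structure St (S P L : Subgroup G) : Prop where
  syl : IsSylowIn 2 S ⊤
  pc : PC ⊤ L
  nL : L.Normal
  nP : P.Normal
  PS : P ≤ S
  cP : S ≤ 𝐂(P)
  LP : L ≤ 𝐂(P)
  dec : ∀ s ∈ S, ∃ u ∈ S ⊓ L, s * u⁻¹ ∈ P
  ZL : L ⊓ Cent L ≤ P
  imS : im L (S ⊓ L) = im L S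
  nab : ¬ S ≤ 𝐂((S ⊓ L : Subgroup G))
  se : SE (im L L)

theorem CI.st (hC : CI G) (hO : oOf (⊤ : Subgroup G) = ⊥) (hS : IsSylowIn 2 S ⊤)
    (hab : ¬ S ≤ 𝐂(S)) : S.Normal ∨ ∃ P L, St S P L := by
  have hn : ∀ U : Subgroup G, IsSylowIn 2 U ⊤ → ¬ U ≤ 𝐂(U) := fun U hU k => by
    obtain ⟨g, -, rfl⟩ := hS.conj hU
    exact hab (cj_le_cj.1 (cj_centralizer g S ▸ k))
  obtain ⟨P, -, -, h1, h2, h3⟩ := exists_P (⊤ : Subgroup G)
  rw [hO] at h2 h3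
  replace h3 : ∀ x, (∀ L, PC ⊤ L → x ∈ Cent L) → x ∈ 𝐂(P) → x ∈ P := fun x k hx =>
    h3 x (mem_top x) k (commutator_eq_bot_iff_le_centralizer.2
      (le_cent_comm.1 (zpowers_le.2 hx))).le
  haveI nP : P.Normal := normalizer_eq_top_iff.1 (top_le_iff.1 h1)
  replace h2 : IsPGroup 2 P := by
    obtain ⟨k, hk⟩ := h2.exists_card_eq
    exact .of_card (n := k) (by
      rw [← hk, QuoApi.card_quo_of_disjoint le_normalizer_of_normal (inf_bot_eq _)])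
  have PS : P ≤ S := hS.le_of_le_normalizer le_top h2 le_normalizer_of_normal
  rcases hC.k1 hS PS le_normalizer_of_normal with k | cP
  · exact .inl (normalizer_eq_top_iff.1 (top_le_iff.1 (h1.trans k)))
  by_cases hL : ∃ L : Subgroup G, PC ⊤ L
  swap
  · exact .inl (le_antisymm PS (fun s hs => h3 s (fun L k => absurd ⟨L, k⟩ hL) (cP hs)) ▸ nP)
  obtain ⟨L, hL⟩ := hL
  replace h3 : ∀ x ∈ Cent L, x ∈ 𝐂(P) → x ∈ P := fun x k =>
    h3 x fun L' hL' => hC.uniq hO hn hL hL' ▸ k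
  haveI nL : L.Normal := normal_iff_cj.2 fun g =>
    hC.uniq hO hn (hL.cj_of_norm (le_normalizer (mem_top g))) hL
  have N : ∀ {K : Subgroup G}, K ≤ 𝐍(L) := @fun _ => le_normalizer_of_normal
  have N' : ∀ g : G, g ∈ 𝐍(L) := fun g => N (mem_top g)
  have nab : ¬ S ≤ 𝐂((S ⊓ L : Subgroup G)) := fun k => hab (hC.cC hO hS hL k)
  have hN := (hC.k1 hS inf_le_left (le_normalizer_inf le_normalizer N)).resolve_right nab
  have LP : L ≤ 𝐂(P) := hL.le_of_norm le_normalizer_of_normal fun k =>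
    not_le_Cent hS hL ((inf_le_inf_right L cP).trans k)
  have hT := sylow_inf_sn hS hL.sn
  have hT' := sylow_im le_normalizer hT
  have hS' := sylow_im N hS
  rw [show im L ⊤ = ⊤ from eq_top_iff.2 fun z _ => by
    obtain ⟨x, hx, rfl⟩ := pr_surj z
    exact pr_mem_im (mem_top x) hx] at hS'
  have hV := (hC.quot (MonoidHom.mk' (pr L) fun a b => pr_mul (N' a) (N' b)) fun z =>
    let ⟨x, _, e⟩ := pr_surj z; ⟨x, e⟩).sc hS'
  have hG := AS_gp hL.as hV (OZ_ne_bot hS'.pgrp fun e =>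
    not_le_Cent hS hL (inf_le_left.trans ((im_eq_bot N).1 e)))
  have e1 := hT'.max (im L S ⊓ im L L) inf_le_right hS'.pgrp.to_inf_left
    (le_inf (im_mono inf_le_left) hT'.le)
  have hle := GP_le hG hS' (fun _ h => h.1) (le_cent_comm.1 fun _ h => h.2.1) (by
    rw [e1, ← im_norm_sylow le_normalizer hT]
    exact im_le_norm N (inf_le_right.trans hN))
  rw [inf_eq_left.2 hle] at e1
  have ZS : S ⊓ Cent L ≤ P := fun x hx => h3 x hx.2 (cP hx.1)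
  have ZL : L ⊓ Cent L ≤ P := fun x hx => h3 x hx.2 (LP hx.1)
  refine .inr ⟨P, L, hS, hL, nL, nP, PS, cP, LP, fun s hs => ?_, ZL, e1.symm, nab,
    by_contra fun hE => nab (le_cent_comm.1 ?_)⟩
  · obtain ⟨u, hu, e⟩ := (mem_im' N).1 (e1 ▸ pr_mem_im hs (N' s))
    exact ⟨u, hu, ZS ⟨S.mul_mem hs (S.inv_mem hu.1), (pr_eq_iff (N' s) (N' u)).1 e.symm⟩⟩
  have e2 : im L (S ⊓ L) = OZ (im L S) :=
    (hG.syl hE).max _ hT'.le hT'.pgrp fun _ h => e1 ▸ h.1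
  obtain ⟨X, hX, -, -, tr⟩ := hG.exists_trans
  obtain ⟨t, ht, htC⟩ := SetLike.not_le_iff_exists.1 (not_le_Cent hS hL)
  have h4 := hG.gen hE (e2 ▸ pr_mem_im ht (N' t)) (mt (pr_eq_one (N' t)).1 htC)
  rw [← e2] at hX h4 tr
  obtain ⟨z, hz, hz'⟩ := SetLike.not_le_iff_exists.1 fun k : im L L ⊓ cz (pr L t) ≤ 𝐍(im L (S ⊓ L)) =>
    hL.as.not_solv (solv_of_norm hT' (h4.trans (sup_le k inf_le_right)))
  obtain ⟨g, hg, rfl⟩ := (mem_im' N).1 hz.1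
  obtain ⟨U, u1, u2, u3⟩ := hC.two hS (zpowers_le.2 ht.1) (g := g⁻¹) (zpowers_le.2 (mem_cj_inv.2 (by
    simpa using mul_mem (PS (ZL ⟨L.mul_mem (nL.conj_mem t ht.2 g) (L.inv_mem ht.2),
      (pr_mem_cz_iff (N' t) (N' g)).1 hz.2⟩)) ht.1))) fun k => hz' (by
        rw [← e1]; exact pr_mem_norm N (N' g) (by simpa using k))
  obtain ⟨h, -, rfl⟩ := u1.conj hS
  have t1 := conj_mem_cj (g := h) (u2 (mem_zpowers t))
  have t2 : h * t * h⁻¹ ∈ 𝐂(cj h U) :=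
    cj_centralizer h U ▸ conj_mem_cj (le_cent_comm.1 u3 (mem_zpowers t))
  have t3 : h * t * h⁻¹ ∈ cj h U ⊓ L := ⟨t1, nL.conj_mem t ht.2 h⟩
  intro u hu
  by_cases h5 : u ∈ Cent L
  · exact le_cent_comm.1 cP (ZS ⟨hu.1, h5⟩)
  obtain ⟨x, hx, e⟩ := tr _ (pr_mem_im t3 (N' _)) _ (pr_mem_im hu (N' u))
    (fun e => htC ((mem_normalizer_iff.1 (norm_le_norm_Cent L (N' h)) t).2 ((pr_eq_one (N' _)).1 e)))
    (mt (pr_eq_one (N' u)).1 h5)
  rw [← im_norm_sylow le_normalizer hT] at hX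
  obtain ⟨y, hy, rfl⟩ := (mem_im' N).1 (hX hx)
  rw [← pr_conj (N' y) (N' _), eq_comm, pr_eq_iff (N' u) (N' _)] at e
  simpa only [inv_mul_cancel_right] using mul_mem (le_cent_comm.1 cP (ZS ⟨(cj h U).mul_mem hu.1 (inv_mem
    (conj_mem_of_mem_normalizer (hN hy.2) t1)), e⟩))
    (conj_mem_of_mem_normalizer (normalizer_le_normalizer_centralizer _ (hN hy.2)) t2)

theorem two_gen (hS : IsPGroup 2 S) : (∃ E ≤ S, (∀ e ∈ E, e * e = 1) ∧ 4 ≤ Nat.card E) ∨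
    ∃ a ∈ S, ∃ b ∈ S, S ≤ zpowers a ⊔ zpowers b := by
  have k : ∀ a b : S, closure {a, b} = ⊤ → ∃ a ∈ S, ∃ b ∈ S, S ≤ zpowers a ⊔ zpowers b :=
    fun a b e => ⟨a, a.2, b, b.2, fun s hs => ((closure_le
      ((zpowers (a : G) ⊔ zpowers (b : G)).subgroupOf S)).2 (Set.pair_subset
        (mem_sup_left (mem_zpowers (a : G))) (mem_sup_right (mem_zpowers (b : G)))) :)
          (e.ge (mem_top (⟨s, hs⟩ : S)))⟩
  by_cases h : ∀ A : Subgroup S, A.Normal → IsMulCommutative A → IsCyclic A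
  · by_cases hc : IsCyclic S
    · obtain ⟨a, ha⟩ := hc.exists_generator
      exact .inr (k a a (eq_top_iff.2 fun x _ => zpowers_le.2 (subset_closure (by simp)) (ha x)))
    · obtain ⟨a, b, m, -, h1, h2, -⟩ := PGrp.exists_gens_of_normal_abelian_cyclic hS h hc
      exact .inr (k a b (Classical.DihRecog.closure_eq_top_of_index_two h1 h2))
  · push Not at h
    obtain ⟨A, -, h1, h2⟩ := h
    refine .inl ⟨(omegaOne 2 A).map S.subtype, map_subtype_le _, ?_, ?_⟩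
    · rintro _ ⟨e, he, rfl⟩
      exact congrArg Subtype.val ((pow_two e).symm.trans
        (PGrp.pow_eq_one_of_mem_omegaOne_of_comm h1 he))
    · rw [card_map_subtype]
      exact PGrp.sq_le_card_omegaOne_of_comm (hS.to_subgroup A) h1 h2

theorem eq_one_of (hS : IsPGroup 2 S) (hO : Odd (Nat.card O)) {x : G} (h1 : x ∈ S) (h2 : x ∈ O) :
    x = 1 := eq_one_of_odd_of_two hS h1 (odd_orderOf hO h2)

theorem cent_of (hS : IsPGroup 2 S) (hO : Odd (Nat.card O)) (hn : S ≤ 𝐍(O))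
    (h1 : ∀ x ∈ S, O ⊓ cz x ≤ 𝐂(S) ∨ x ∈ 𝐂(S))
    (h2 : ∀ a ∈ S, ∀ b ∈ S, ¬ S ≤ zpowers a ⊔ zpowers b ⊔ (S ⊓ 𝐂(S))) : O ≤ 𝐂(S) := by
  by_contra h
  obtain ⟨Z, ⟨z1, z2⟩, z3⟩ := Set.Finite.exists_maximal (Set.toFinite
    {Z : Subgroup G | Z ≤ S ∧ ¬ O ⊓ 𝐂(Z) ≤ 𝐂(S)}) ⟨⊥, bot_le, fun k => h fun x hx =>
      k ⟨hx, fun y hy => by rw [mem_bot.1 hy, one_mul, mul_one]⟩⟩
  have z4 : Z ≤ 𝐂(S) := fun x hx => (h1 x (z1 hx)).resolve_left fun k =>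
    z2 ((inf_le_inf_left O (cent_le_cz hx)).trans k)
  have z5 : S ≤ 𝐍(Z) := (le_cent_comm.1 z4).trans (cent_le_norm' Z)
  have z6 : O ⊓ 𝐂(Z) ≤ 𝐍(Z) := inf_le_right.trans (cent_le_norm' Z)
  have z7 : S ≤ 𝐍((O ⊓ 𝐂(Z) : Subgroup G)) := le_normalizer_inf hn (le_normalizer_centralizer z5)
  rcases two_gen (QuoApi.isPGroup_quo hS Z) with ⟨E, e1, e2, e3⟩ | ⟨a, ha, b, hb, e⟩
  · have := le_of_invol (M := quo Z 𝐂(S)) e2 (Odd.of_dvd_nat
      (hO.of_dvd_nat (card_dvd_of_le inf_le_left)) (QuoApi.card_quo_dvd Z (O ⊓ 𝐂(Z))))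
      (e1.trans (QuoApi.quo_le_normalizer z7)) e3 fun e he e0 y hy => by
        obtain ⟨s, hs, rfl⟩ := QuoApi.mem_quo.1 (e1 he)
        obtain ⟨x, hx, rfl⟩ := QuoApi.mem_quo.1 hy.1
        refine QuoApi.mk_mem_quo (by_contra fun k => e0 (QuoApi.quoMk_eq_one_iff.2 ?_))
        refine z3 (y := Z ⊔ zpowers (s : G)) ⟨sup_le z1 (zpowers_le.2 hs), fun k' => k (k' ⟨hx.1,
          le_cent_comm.1 (sup_le (le_cent_comm.1 (zpowers_le.2 hx.2)) (zpowers_le.2 ?_))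
            (mem_zpowers _)⟩)⟩ le_sup_left (mem_sup_right (mem_zpowers _))
        have h3 := mem_cz.1 hy.2
        rw [← map_mul, ← map_mul, QuoApi.quoMk_eq_iff] at h3
        have h4 := eq_one_of hS hO (z1 h3) (by
          simpa only [coe_mul, mul_inv_rev, mul_assoc] using mul_mem (inv_conj_mem_of_mem_normalizer
            (hn hs) (inv_mem hx.1)) hx.1)
        rw [cent_zpowers, mem_cz]
        exact (inv_mul_eq_one.1 h4).symm
    exact z2 ((QuoApi.quo_le_quo_iff z6 z4).1 this)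
  · obtain ⟨a, ha', rfl⟩ := QuoApi.mem_quo.1 ha
    obtain ⟨b, hb', rfl⟩ := QuoApi.mem_quo.1 hb
    rw [← QuoApi.quo_zpowers, ← QuoApi.quo_zpowers, ← QuoApi.quo_sup (zpowers_le.2 a.2)
      (zpowers_le.2 b.2), QuoApi.quo_le_quo_iff' z5 (sup_le (zpowers_le.2 a.2) (zpowers_le.2 b.2))] at e
    exact h2 a ha' b hb' (e.trans (sup_le_sup_left (le_inf z1 z4) _))

theorem not_two_gen {V : Subgroup G} (h1 : ⁅T, T⁆ = V) (h2 : T ≤ 𝐂(V)) (h3 : ∀ v ∈ V, v * v = 1)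
    (h4 : 4 ≤ Nat.card V) {a b : G} (ha : a ∈ T) (hb : b ∈ T) :
    ¬ T ≤ zpowers a ⊔ zpowers b ⊔ (T ⊓ 𝐂(T)) := fun h => by
  have hc : a * b * a⁻¹ * b⁻¹ ∈ V := h1 ▸ commutator_mem_commutator ha hb
  have hW : zpowers (a * b * a⁻¹ * b⁻¹) ≤ V := zpowers_le.2 hc
  have hn : T ≤ 𝐍(zpowers (a * b * a⁻¹ * b⁻¹)) := (h2.trans (cent_anti hW)).trans (cent_le_norm' _)
  have h5 : Nat.card (zpowers (a * b * a⁻¹ * b⁻¹)) ≤ 2 := by
    rw [Nat.card_zpowers]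
    exact Nat.le_of_dvd two_pos (orderOf_dvd_of_pow_eq_one (by rw [pow_two, h3 _ hc]))
  have h6 : quoMk _ ⟨a, hn ha⟩ * quoMk _ ⟨b, hn hb⟩ = quoMk _ ⟨b, hn hb⟩ * quoMk _ ⟨a, hn ha⟩ := by
    rw [← mul_inv_eq_one, ← map_mul, ← map_mul, ← map_inv, ← map_mul, QuoApi.quoMk_eq_one_iff]
    simp [mul_assoc]
  generalize zpowers (a * b * a⁻¹ * b⁻¹) = W at *
  have h7 := QuoApi.quo_mono (N := W) h
  rw [QuoApi.quo_sup (sup_le (zpowers_le.2 (hn ha)) (zpowers_le.2 (hn hb))) (inf_le_left.trans hn),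
    QuoApi.quo_sup (zpowers_le.2 (hn ha)) (zpowers_le.2 (hn hb)), QuoApi.quo_zpowers ⟨a, hn ha⟩,
    QuoApi.quo_zpowers ⟨b, hn hb⟩] at h7
  have h8 : quo W (T ⊓ 𝐂(T)) ≤ 𝐂(quo W T) := QuoApi.quo_le_centralizer inf_le_right
  have h9 : ∀ x ∈ quo W T, quoMk W ⟨a, hn ha⟩ ∈ cz x → quoMk W ⟨b, hn hb⟩ ∈ cz x →
      x ∈ 𝐂(quo W T) := fun x hx k1 k2 =>
    le_cz_iff.1 (h7.trans (sup_le (sup_le (zpowers_le.2 k1) (zpowers_le.2 k2))
      (h8.trans (cent_le_cz hx))))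
  have := card_le_of_le (h1 ▸ (QuoApi.quo_le_centralizer_iff hn hn).1 (h7.trans (sup_le (sup_le
    (zpowers_le.2 (h9 _ (QuoApi.mk_mem_quo ha) (self_mem_cz _) (mem_cz.2 h6.symm)))
    (zpowers_le.2 (h9 _ (QuoApi.mk_mem_quo hb) (mem_cz.2 h6) (self_mem_cz _)))) h8)))
  omega

open H2.Schur in
theorem cover {X Y : Type*} [Group X] [Group Y] [Finite Y] [Group.IsPerfect X] [Group.IsPerfect Y]
    (hY : HasCyclicSchurMultiplier Y 1) {ξ : X →* Y ⧸ center Y} (hξ : CExt ξ) :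
    Nat.card ξ.ker ∣ Nat.card (center Y) ∧
      ((Nat.card (center Y)).Prime → ξ.ker = ⊥ ∨ Nonempty (X ≃* Y)) := by
  obtain ⟨η, hη⟩ := exists_lift_of_trivial hY hξ (QuotientGroup.mk' _)
  have hs := surjective_of_stem (stem_of_perfect hξ) (hη ▸ QuotientGroup.mk'_surjective _)
  have k : ∀ y, ξ (η y) = 1 ↔ y ∈ center Y := fun y => by
    rw [← MonoidHom.comp_apply, hη, QuotientGroup.mk'_apply, QuotientGroup.eq_one_iff]
  have h1 : ξ.ker ≤ (center Y).map η := fun x hx => by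
    obtain ⟨y, rfl⟩ := hs x
    exact ⟨y, (k y).1 hx, rfl⟩
  have h2 : η.ker ≤ center Y := fun y hy => (k y).1 (by rw [MonoidHom.mem_ker.1 hy, map_one])
  haveI := Finite.of_surjective η hs
  refine ⟨(card_dvd_of_le h1).trans (card_map_dvd _ _), fun hp => ?_⟩
  rcases (Nat.dvd_prime hp).1 (card_dvd_of_le h2) with e | e
  · exact .inr ⟨(MulEquiv.ofBijective η ⟨η.ker_eq_bot_iff.1 (card_eq_one.1 e), hs⟩).symm⟩
  · exact .inl (le_bot_iff.1 (h1.trans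
      ((Subgroup.map_eq_bot_iff _).2 (eq_of_le_of_card_le h2 e.ge).ge).le))

theorem l2e_ab (h : CIT.F.L2E G) : PLocal.AbelianTwo G := by
  obtain ⟨K, _, _, m, hm, hK, ⟨f⟩⟩ := h
  haveI := Push.charP_of_card hK
  obtain ⟨P⟩ : Nonempty (Sylow 2 (Matrix.ProjectiveSpecialLinearGroup (Fin 2) K)) := inferInstance
  exact (PLocal.AbelianTwo.of_sylow P ⟨⟨fun a b => Subtype.ext (commutator_eq_bot_iff_le_centralizer.1
    (Push.psl_facts K (isSylowIn_top P)).1 b.2 _ a.2)⟩⟩).of_injective f.toMonoidHom f.injective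

namespace St
variable (h : St S P L)
include h

theorem N (g : G) : g ∈ 𝐍(L) := (normalizer_eq_top_iff.2 h.nL).ge (mem_top g)

theorem le : S ≤ P ⊔ L := fun s hs => by
  obtain ⟨u, hu, e⟩ := h.dec s hs
  simpa using mul_mem (mem_sup_left e) (mem_sup_right (S := P) hu.2)

theorem sylT : IsSylowIn 2 (im L S) (im L L) :=
  h.imS ▸ sylow_im le_normalizer (sylow_inf_sn h.syl h.pc.sn)

theorem cent (hU : IsSylowIn 2 U ⊤) {x : G} (h1 : x ∈ S) (h2 : x ∈ U) (h3 : U ≤ cz x) :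
    x ∈ 𝐂(S) := by
  obtain ⟨V, H, hB⟩ := h.pc.as.exists_BD h.se h.sylT
  obtain ⟨g, -, rfl⟩ := h.syl.conj hU
  have key : ∀ l ∈ L, pr L l ∈ im L S → l ∈ S := fun l hl k => by
    obtain ⟨u, hu, e⟩ := (mem_im' fun g _ => h.N g).1 (h.imS ▸ k)
    simpa using mul_mem (h.PS (h.ZL ⟨L.mul_mem hl (L.inv_mem hu.2),
      (pr_eq_iff (h.N l) (h.N u)).1 e.symm⟩)) hu.1
  by_cases h4 : pr L x = 1
  · obtain ⟨u, hu, e⟩ := h.dec x h1
    have := h.ZL ⟨hu.2, (pr_eq_one (h.N u)).1 ?_⟩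
    · simpa using le_cent_comm.1 h.cP (mul_mem e this)
    have := (pr_eq_one (h.N _)).2 (cent_le_Cent L (le_cent_comm.1 h.LP e))
    rwa [pr_mul (h.N _) (h.N _), h4, one_mul, pr_inv (h.N _), inv_eq_one] at this
  have h5 := inv_mem (hB.ti _ (pr_mem_im h1 (h.N x)) h4 (pr L g)⁻¹ (by
    rw [← pr_inv (h.N g), ← pr_conj (h.N _) (h.N _), inv_inv]
    exact pr_mem_im (mem_cj.1 h2) (h.N _)))
  rw [hU.eq_of_le h.syl (cj_le_iff'.2 fun s hs => ?_)] at h3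
  · exact le_cz_iff.1 h3
  obtain ⟨u, hu, e⟩ := h.dec s hs
  have h6 := mul_mem (h.PS (h.nP.conj_mem _ e g)) (key _ (h.nL.conj_mem _ hu.2 g) (by
    rw [pr_conj (h.N _) (h.N _)]
    exact conj_mem_of_mem_normalizer (by simpa using h5) (pr_mem_im hu.1 (h.N u))))
  convert h6 using 1
  group

theorem perf : Group.IsPerfect L := ⟨by
  rw [← Subgroup.map_subtype_inj, ← MonoidHom.range_eq_map, range_subtype, map_subtype_commutator,
    h.pc.perf]⟩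

theorem cext (hO : oOf (⊤ : Subgroup G) = ⊥) :
    H2.Schur.CExt (imHom (L := L) (K := L) le_normalizer) :=
  ⟨imHom_surj _, fun x hx => mem_center_iff.2 fun y => Subtype.ext
    (cent_eq hO h.pc (imHom_ker (L := L) (K := L) le_normalizer ▸ hx :) y.2).symm⟩

theorem ker_ne (hab : PLocal.AbelianTwo (im L L)) :
    (imHom (L := L) (K := L) le_normalizer).ker ≠ ⊥ := fun e => by
  have h1 := (hab.of_injective _ ((MonoidHom.ker_eq_bot_iff _).1 e)) ((S ⊓ L).subgroupOf L)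
    (isPGroup_subgroupOf h.syl.pgrp.to_inf_left)
  refine h.nab fun s hs => ?_
  obtain ⟨u, hu, k⟩ := h.dec s hs
  simpa using mul_mem (cent_anti inf_le_right (le_cent_comm.1 h.LP k))
    (show u ∈ 𝐂((S ⊓ L : Subgroup G)) from fun t ht => congrArg (fun x => (x.1.1 : G))
      (h1.1.1 ⟨⟨t, ht.2⟩, ht⟩ ⟨⟨u, hu.2⟩, hu⟩))

theorem gen (hab : ¬ PLocal.AbelianTwo (im L L)) {a b : G} (ha : a ∈ S) (hb : b ∈ S) :
    ¬ S ≤ zpowers a ⊔ zpowers b ⊔ (S ⊓ 𝐂(S)) := fun k => by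
  obtain ⟨V, H, hB⟩ := h.pc.as.exists_BD h.se h.sylT
  have N : ∀ {K : Subgroup G}, K ≤ 𝐍(L) := @fun _ g _ => h.N g
  rcases hB.cases with e | ⟨e, -⟩
  · exact hab (.of_sylow hB.syl.toSylow ⟨⟨fun x y => Subtype.ext (Subtype.ext
      (hB.central y.2 _ (e ▸ x.2)))⟩⟩)
  refine not_two_gen e hB.central hB.sq hB.four (pr_mem_im ha (h.N a)) (pr_mem_im hb (h.N b))
    ((im_mono k).trans ?_)
  rw [im_sup N N, im_sup N N, im_zpowers (h.N a), im_zpowers (h.N b)]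
  exact sup_le_sup_left (le_inf (im_mono inf_le_left) (im_le_cent inf_le_right)) _

end St

end Cfsg.Agent.Fil
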