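import Mathlib
import Cfsg.Agent.Fil.I
import Cfsg.Agent.GsD.AG
import Cfsg.Agent.Push.Spe
import Cfsg.Agent.PLocal.FF7
import Cfsg.Agent.Glaub.Control
import Cfsg.Agent.PGrp.Aut

/-! Groups with abelian Sylow 2-intersections, I: fusion. -/

set_option autoImplicit false
set_option linter.unusedSectionVars false

namespace Cfsg.Agent.Fil

open Subgroup Cfsg.Agent.GW Cfsg.Agent.LocalEven Cfsg.Agent.BG Cfsg.Agent.Gs Cfsg.Agent.GsC

variable {G : Type*} [Group G] [Finite G] {S D E M W : Subgroup G} {a b g h n r d o v x y : G}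

/-- class at most two -/
def C2 (S : Subgroup G) : Prop := ∀ a ∈ S, ∀ b ∈ S, a * b * a⁻¹ * b⁻¹ ∈ 𝐂(S)

structure AH (S : Subgroup G) : Prop where
  syl : IsSylowIn 2 S ⊤
  ai : ∀ g a b, a ∈ S → b ∈ S → g * a * g⁻¹ ∈ S → g * b * g⁻¹ ∈ S → a * b ≠ b * a → g ∈ 𝐍(S)
  cl : ∀ W, IsStronglyClosed W S → (∀ w ∈ W, w * w = 1) → W = ⊥
  foc : ∀ M : Subgroup G, (∀ x ∈ S, ∀ g, g * x * g⁻¹ ∈ S → x⁻¹ * (g * x * g⁻¹) ∈ M) → S ≤ M
  nc : ¬ C2 S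

def XX (S D : Subgroup G) : Subgroup G := 𝐂(D) ⊔ (𝐍(D) ⊓ 𝐍(S))

structure Mem (S D : Subgroup G) : Prop where
  le : D ≤ S
  ab : D ≤ 𝐂(D)
  sc : S ⊓ 𝐂(D) ≤ D
  out : ¬ 𝐍(D) ≤ XX S D

theorem mem_XX : g ∈ XX S D ↔ ∃ c ∈ 𝐂(D), ∃ m ∈ 𝐍(D) ⊓ 𝐍(S), c * m = g :=
  mem_sup_iff_of_le_normalizer' (inf_le_left.trans (normalizer_le_normalizer_centralizer D))

theorem XX_le : XX S D ≤ 𝐍(D) := sup_le (cent_le_norm' D) inf_le_left

theorem grow (hS : IsPGroup 2 S) (h1 : D ≤ S ⊓ M) (h2 : ∀ x ∈ S, x ∈ M → x ∈ 𝐍(D) → x ∈ D) :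
    S ⊓ M ≤ D := by
  rcases h1.eq_or_lt with e | e
  · exact e.ge
  obtain ⟨x, x1, x2, x3⟩ := exists_mem_normalizer_of_lt (hS.to_le inf_le_left) e
  exact absurd (h2 x x1.1 x1.2 x2) x3

theorem cj_OZ (g : G) (D : Subgroup G) : cj g (OZ D) = OZ (cj g D) := by
  ext x
  rw [mem_cj]
  change _ ∧ _ ∧ _ ↔ _ ∧ _ ∧ _
  rw [← cj_centralizer, mem_cj, mem_cj]
  refine and_congr Iff.rfl (and_congr Iff.rfl ⟨fun k => ?_, fun k => ?_⟩)
  · calc x * x = g * (g⁻¹ * x * g * (g⁻¹ * x * g)) * g⁻¹ := by group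
      _ = 1 := by rw [k]; group
  · calc g⁻¹ * x * g * (g⁻¹ * x * g) = g⁻¹ * (x * x) * g := by group
      _ = 1 := by rw [k]; group

theorem norm_OZ : 𝐍(D) ≤ 𝐍(OZ D) := fun g hg => by
  rw [← cj_eq_self_iff, cj_OZ, cj_eq_of_mem_normalizer hg]

theorem OZ_le : OZ D ≤ D := fun _ h => h.1

theorem pow_two_odd {k m : ℕ} (h1 : x ^ 2 ^ k = 1) (hm : Odd m) (h2 : x ^ m = 1) : x = 1 := by
  have := Nat.dvd_gcd (orderOf_dvd_of_pow_eq_one h1) (orderOf_dvd_of_pow_eq_one h2)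
  rwa [Nat.Coprime.gcd_eq_one (Nat.Coprime.pow_left k (Nat.coprime_two_left.2 hm)), Nat.dvd_one,
    orderOf_eq_one_iff] at this

theorem comm_one {k : ℕ} (ho : Odd (orderOf o)) (h1 : (o * x * o⁻¹ * x⁻¹) ^ 2 ^ k = 1)
    (h : Commute (o * x * o⁻¹ * x⁻¹) o) : o * x * o⁻¹ = x := by
  have := conj_pow_eq (m := orderOf o) h
  rw [pow_orderOf_eq_one, one_mul, inv_one, mul_one, right_eq_mul] at this
  exact mul_inv_eq_one.1 (pow_two_odd h1 ho this)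

theorem odd_cent (hD : IsPGroup 2 D) (ab : D ≤ 𝐂(D)) (ho : Odd (orderOf o)) (hn : o ∈ 𝐍(D))
    (hc : o ∈ 𝐂(OZ D)) : o ∈ 𝐂(D) := by
  have key : ∀ k, ∀ d ∈ D, d ^ 2 ^ k = 1 → o * d * o⁻¹ = d := by
    intro k
    induction k with
    | zero => intro d _ h; simp_all
    | succ k ih =>
      intro d hd h
      have h1 := ih (d * d) (mul_mem hd hd) (by rw [← sq, ← pow_mul, ← pow_succ', h])
      have h2 := conj_mem_of_mem_normalizer hn hd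
      have h3 : o * d * o⁻¹ * d⁻¹ ∈ D := mul_mem h2 (inv_mem hd)
      have h4 : o * d * o⁻¹ * d⁻¹ * (o * d * o⁻¹ * d⁻¹) = 1 := by
        have := ab h2 _ (inv_mem hd)
        calc _ = o * d * o⁻¹ * (d⁻¹ * (o * d * o⁻¹)) * d⁻¹ := by group
          _ = o * (d * d) * o⁻¹ * (d * d)⁻¹ := by rw [this]; group
          _ = 1 := by rw [h1]; group
      exact comm_one (k := 1) ho (by rw [pow_one, sq, h4]) (hc _ ⟨h3, ab h3, h4⟩)
  refine fun d hd => ?_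
  obtain ⟨k, hk⟩ := hD ⟨d, hd⟩
  have := key k d hd (congrArg Subtype.val hk)
  rw [mul_inv_eq_iff_eq_mul] at this
  exact this.symm

namespace AH

variable (H : AH S)
include H

theorem two : IsPGroup 2 S := H.syl.pgrp

theorem sylM (ha : a ∈ S ⊓ M) (hb : b ∈ S ⊓ M) (h : a * b ≠ b * a) : IsSylowIn 2 (S ⊓ M) M := by
  obtain ⟨T, hT, h1⟩ := exists_isSylowIn_le (H.two.to_le inf_le_left) (inf_le_right : S ⊓ M ≤ M)
  obtain ⟨g, -, hg⟩ := H.syl.exists_cj_le hT.pgrp le_top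
  have := H.ai g a b ha.1 hb.1 (hg (conj_mem_cj (h1 ha))) (hg (conj_mem_cj (h1 hb))) h
  rw [cj_le_iff, cj_eq_of_mem_normalizer (inv_mem this)] at hg
  rwa [le_antisymm h1 (le_inf hg hT.le)]

theorem nab : ¬ S ≤ 𝐂(S) := fun k => H.nc fun a ha b hb => by
  rw [← k ha b hb]; simp [one_mem]

end AH

namespace Mem

theorem cj (hD : Mem S D) (hg : g ∈ 𝐍(S)) : Mem S (cj g D) where
  le := cj_le_of_mem_normalizer hg hD.le
  ab := by rw [← cj_centralizer]; exact cj_mono g hD.ab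
  sc := by
    rw [← cj_centralizer, ← cj_eq_of_mem_normalizer hg, ← cj_inf]; exact cj_mono g hD.sc
  out k := hD.out <| by
    have e : 𝐍(S) = LocalEven.cj g 𝐍(S) := (cj_eq_of_mem hg).symm
    rw [XX, ← cj_centralizer, ← cj_normalizer, e, ← cj_inf, ← cj_sup, cj_le_cj] at k
    exact k

variable (hD : Mem S D)
include hD

theorem leR : D ≤ S ⊓ 𝐍(D) := le_inf hD.le le_normalizer

theorem nc (hr : r ∈ S) (h : r ∉ D) : ∃ d ∈ D, d * r ≠ r * d := by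
  by_contra! k
  exact h (hD.sc ⟨hr, k⟩)

theorem mem_V (hd : d ∈ D) (h : d * d = 1) : d ∈ OZ D := ⟨hd, hD.ab hd, h⟩

theorem comm (ha : a ∈ D) (hb : b ∈ D) : a * b = b * a := hD.ab hb a ha

theorem conj (ha : a ∈ D) (hb : b ∈ D) : a * b * a⁻¹ = b := conj_eq_of_cent (hD.ab ha) hb

variable (H : AH S)
include H

theorem exR : ∃ r ∈ S ⊓ 𝐍(D), r ∉ D := by
  rcases hD.le.eq_or_lt with e | e
  · exact absurd (e ▸ hD.ab) H.nab
  obtain ⟨x, x1, x2, x3⟩ := exists_mem_normalizer_of_lt H.two e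
  exact ⟨x, ⟨x1, x2⟩, x3⟩

theorem syl : IsSylowIn 2 (S ⊓ 𝐍(D)) 𝐍(D) := by
  obtain ⟨r, h1, h2⟩ := hD.exR H
  obtain ⟨d, h3, h4⟩ := hD.nc h1.1 h2
  exact H.sylM (hD.leR h3) h1 h4

theorem normR (hg : g ∈ 𝐍((S ⊓ 𝐍(D) : Subgroup G))) : g ∈ 𝐍(S) := by
  obtain ⟨r, h1, h2⟩ := hD.exR H
  obtain ⟨d, h3, h4⟩ := hD.nc h1.1 h2
  exact H.ai g d r (hD.le h3) h1.1 (conj_mem_of_mem_normalizer hg (hD.leR h3)).1
    (conj_mem_of_mem_normalizer hg h1).1 h4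

theorem ti (hr : r ∈ S ⊓ 𝐍(D)) (h0 : r ∉ D) (hn : n ∈ 𝐍(D))
    (h : n * r * n⁻¹ ∈ 𝐂(D) ⊔ (S ⊓ 𝐍(D))) : n ∈ XX S D := by
  have h1 := (hD.syl H).mono le_sup_right (sup_le (cent_le_norm' D) inf_le_right)
  have h2 : D ⊔ zpowers r ≤ S := sup_le hD.le (zpowers_le.2 hr.1)
  obtain ⟨k, hk, h3⟩ := h1.exists_cj_le (isPGroup_cj n (H.two.to_le h2)) (by
    rw [cj_sup, cj_zpowers, cj_eq_of_mem_normalizer hn]
    exact sup_le (hD.ab.trans le_sup_left) (zpowers_le.2 h))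
  rw [cj_cj] at h3
  obtain ⟨d, h4, h5⟩ := hD.nc hr.1 h0
  have h6 := H.ai (k * n) d r (hD.le h4) hr.1 (h3 (conj_mem_cj (mem_sup_left h4))).1
    (h3 (conj_mem_cj (mem_sup_right (mem_zpowers r)))).1 h5
  have h7 : k ∈ XX S D := (sup_le_sup_left (le_inf inf_le_right (inf_le_left.trans le_normalizer)) _) hk
  have h8 : k * n ∈ XX S D := mem_sup_right (mem_inf.2 ⟨mul_mem (XX_le h7) hn, h6⟩)
  simpa using mul_mem (inv_mem h7) h8

theorem f1 : 𝐍(D) ⊓ 𝐂(OZ D) ≤ 𝐂(D) := by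
  set C := 𝐍(D) ⊓ 𝐂(OZ D)
  have hn : 𝐍(D) ≤ 𝐍(C) := le_normalizer_inf le_normalizer
    (norm_OZ.trans (normalizer_le_normalizer_centralizer _))
  have h1 := (hD.syl H).inf_of_le_normalizer (inf_le_left : C ≤ _) hn
  have h2 : C ≤ 𝐂(D) ⊔ (S ⊓ 𝐍(D) ⊓ C) := by
    rw [← relIndex_eq_one]
    by_contra e
    obtain ⟨q, hq, h3⟩ := Nat.exists_prime_and_dvd e
    obtain ⟨a, a1, a2, -, k, a3⟩ := PGrp.exists_of_prime_dvd_relIndex hq h3
    rcases hq.eq_two_or_odd' with rfl | h4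
    · rw [← inf_relIndex_right] at h3
      exact h1.not_dvd_of_le (le_inf le_sup_right inf_le_right) h3
    · exact a2 (mem_sup_left (odd_cent (H.two.to_le hD.le) hD.ab (a3 ▸ h4.pow) a1.1 a1.2))
  refine h2.trans (sup_le le_rfl fun r hr => hD.ab (by_contra fun h0 => hD.out fun n hn' =>
    hD.ti H hr.1 h0 hn' ?_))
  exact (h2.trans (sup_le_sup_left inf_le_left _)) (conj_mem_of_mem_normalizer (hn hn') hr.2)

theorem cV : S ⊓ 𝐂(OZ D) ≤ D := grow H.two (le_inf hD.le (hD.ab.trans (cent_anti OZ_le)))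
  fun _ h1 h2 h3 => hD.sc ⟨h1, hD.f1 H ⟨h3, h2⟩⟩

theorem cV' : S ⊓ 𝐂(OZ D) = D :=
  le_antisymm (hD.cV H) (le_inf hD.le (hD.ab.trans (cent_anti OZ_le)))

theorem nV (hg : g ∈ 𝐍(S)) (h : g ∈ 𝐍(OZ D)) : g ∈ 𝐍(D) := by
  rw [← hD.cV' H]
  exact inf_normalizer_le_normalizer_inf ⟨hg, normalizer_le_normalizer_centralizer _ h⟩

theorem eq_of (hE : Mem S E) (h : OZ D ≤ E) : D = E := by
  have h1 : E ≤ D := (le_inf hE.le (hE.ab.trans (cent_anti h))).trans (hD.cV H)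
  exact le_antisymm ((le_inf hD.le (hD.ab.trans (cent_anti h1))).trans hE.sc) h1

theorem V_ne : OZ D ≠ ⊥ := fun e => by
  obtain ⟨r, h1, h2⟩ := hD.exR H
  exact h2 (hD.cV H ⟨h1.1, fun v hv => by rw [e, SetLike.mem_coe, mem_bot] at hv; simp [hv]⟩)

end Mem

theorem AH.fus (H : AH S) (ρ : G → G → Prop) (hρ : Equivalence ρ)
    (h1 : ∀ n ∈ 𝐍(S), ∀ x ∈ S, ρ x (n * x * n⁻¹))
    (h2 : ∀ D, Mem S D → ∀ h ∈ 𝐍(D), ∀ r ∈ cj h (S ⊓ 𝐍(D)), ∀ d ∈ D, ρ d (r * d * r⁻¹))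
    (hx : x ∈ S) (hg : g * x * g⁻¹ ∈ S) : ρ x (g * x * g⁻¹) := by
  refine Glaub.alperin_ext H.syl (fun D g => ∀ x ∈ D, ρ x (g * x * g⁻¹))
    (fun D g k _ _ _ _ _ h1 h2 y hy => ?_) (fun D D' g hD _ _ h1 y hy => h1 y (hD hy))
    (fun D hD hE ih n _ hn => ?_) (zpowers x) (zpowers_le.2 hx) g (mem_top g)
    (by rw [cj_zpowers]; exact zpowers_le.2 hg) x (mem_zpowers x)
  · have := hρ.trans (h1 y hy) (h2 _ (conj_mem_cj hy))
    convert this using 1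
    group
  by_cases ab : D ≤ 𝐂(D)
  swap
  · obtain ⟨a, ha, k⟩ := SetLike.not_le_iff_exists.1 ab
    rw [mem_centralizer_iff] at k
    push Not at k
    obtain ⟨b, hb, k⟩ := k
    exact fun y hy => h1 n (H.ai n b a (hD hb) (hD ha) (hD (conj_mem_of_mem_normalizer hn hb))
      (hD (conj_mem_of_mem_normalizer hn ha)) k) y (hD hy)
  have red : ∀ c ∈ 𝐂(D), ∀ m, c * m = n → (∀ y ∈ D, ρ y (m * y * m⁻¹)) →
      ∀ y ∈ D, ρ y (n * y * n⁻¹) := by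
    rintro c hc m rfl k y hy
    have h2 : m ∈ 𝐍(D) := by simpa using mul_mem (inv_mem (cent_le_norm' D hc)) hn
    have h3 := conj_eq_of_cent hc (conj_mem_of_mem_normalizer h2 hy)
    convert k y hy using 1
    rw [← h3]
    group
  by_cases sc : S ⊓ 𝐂(D) ≤ D
  · by_cases out : 𝐍(D) ≤ XX S D
    · obtain ⟨c, hc, m, hm, e⟩ := mem_XX.1 (out hn)
      exact red c hc m e fun y hy => h1 m hm.2 y (hD hy)
    have hM : Mem S D := ⟨hD, ab, sc, out⟩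
    let M : Subgroup G :=
      { carrier := {n | n ∈ 𝐍(D) ∧ ∀ y ∈ D, ρ y (n * y * n⁻¹)}
        one_mem' := ⟨one_mem _, fun y _ => by simpa using hρ.refl y⟩
        mul_mem' := fun {a b} ha hb => ⟨mul_mem ha.1 hb.1, fun y hy => by
          convert hρ.trans (hb.2 y hy) (ha.2 _ (conj_mem_of_mem_normalizer hb.1 hy)) using 1
          group⟩
        inv_mem' := fun {a} ha => ⟨inv_mem ha.1, fun y hy => by
          have := ha.2 _ (conj_mem_of_mem_normalizer (inv_mem ha.1) hy)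
          refine hρ.symm ?_
          convert this using 1
          group⟩ }
    have k : ∀ h ∈ 𝐍(D), IsSylowIn 2 (cj h (S ⊓ 𝐍(D))) M := fun h hh =>
      ((hM.syl H).cj_of_mem hh).mono (fun r hr => ⟨cj_le_of_mem hh inf_le_right hr,
        h2 D hM h hh r hr⟩) fun _ h => h.1
    obtain ⟨m, hm, e⟩ := (k n hn).conj (k 1 (one_mem _))
    rw [cj_one, cj_cj, cj_eq_self_iff] at e
    have : m * n ∈ M := ⟨mul_mem hm.1 hn, fun y hy => h1 _ (hM.normR H e) y (hD hy)⟩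
    have h3 : n ∈ M := by simpa using mul_mem (inv_mem hm) this
    exact h3.2
  · have hR : IsSylowIn 2 (S ⊓ 𝐍(D)) 𝐍(D) := by simpa [Glaub.Extr] using hE
    have hCn : 𝐍(D) ≤ 𝐍(𝐂(D)) := normalizer_le_normalizer_centralizer D
    have hK := hR.inf_of_le_normalizer (cent_le_norm' D) hCn
    have hDQ : D ≤ S ⊓ 𝐍(D) ⊓ 𝐂(D) := le_inf (le_inf hD le_normalizer) ab
    have hlt : D < S ⊓ 𝐍(D) ⊓ 𝐂(D) := lt_of_le_of_ne hDQ fun e => sc
      ((le_inf (inf_le_inf_left _ (cent_le_norm' D)) inf_le_right).trans e.ge)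
    obtain ⟨k, hk, m, hm, e⟩ := hK.frattini (hCn hn)
    exact red k hk m e.symm fun y hy => ih _ (inf_le_left.trans inf_le_left)
      (Glaub.card_lt_of_lt hlt) m (mem_top _)
      (by rw [cj_eq_of_mem_normalizer hm]; exact inf_le_left.trans inf_le_left) y (hDQ hy)

theorem AH.clo (H : AH S) (hW : W ≤ S) (sq : ∀ w ∈ W, w * w = 1) (h1 : 𝐍(S) ≤ 𝐍(W))
    (h2 : ∀ D, Mem S D → ∀ h ∈ 𝐍(D), ∀ r ∈ cj h (S ⊓ 𝐍(D)), ∀ d ∈ D, d ∈ W → r * d * r⁻¹ ∈ W) :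
    W = ⊥ := by
  refine H.cl W ⟨hW, fun x hx g hg => (H.fus (fun x y => x ∈ W ↔ y ∈ W)
    ⟨fun _ => Iff.rfl, Iff.symm, Iff.trans⟩ (fun n hn x _ => mem_normalizer_iff.1 (h1 hn) x)
    (fun D hD h hh r hr d hd => ⟨h2 D hD h hh r hr d hd, fun k => ?_⟩) (hW hx) hg).1 hx⟩ sq
  have := h2 D hD h hh _ (inv_mem hr) _
    (conj_mem_of_mem_normalizer (cj_le_of_mem hh inf_le_right hr) hd) k
  simpa [mul_assoc] using this

theorem AH.foc' (H : AH S)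
    (h1 : ∀ o ∈ 𝐍(S), Odd (orderOf o) → ∀ s ∈ S, s⁻¹ * (o * s * o⁻¹) ∈ W)
    (h2 : ∀ D, Mem S D → ∀ h ∈ 𝐍(D), ∀ r ∈ cj h (S ⊓ 𝐍(D)), ∀ d ∈ D, d⁻¹ * (r * d * r⁻¹) ∈ W) :
    S ≤ W := by
  by_contra e
  obtain ⟨M, hn, hi, hM⟩ := PGrp.exists_normal_index_prime_ge H.two (H := W.subgroupOf S)
    (by rwa [Ne, subgroupOf_eq_top])
  have hW : ∀ w ∈ S, w ∈ W → w ∈ M.map S.subtype := fun w h1 h2 => ⟨⟨w, h1⟩, hM h2, rfl⟩
  have h3 : S ≤ M.map S.subtype := H.foc _ fun x hx g hg => by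
    refine H.fus (fun x y => x⁻¹ * y ∈ M.map S.subtype) ⟨fun _ => by simp [one_mem],
      fun k => by simpa using inv_mem k, fun k l => by simpa [mul_assoc] using mul_mem k l⟩
      (fun n hn x hx => ?_) (fun D hD h hh r hr d hd => hW _ (hD.le (mul_mem (inv_mem hd)
        (conj_mem_of_mem_normalizer (cj_le_of_mem hh inf_le_right hr) hd)))
        (h2 D hD h hh r hr d hd)) hx hg
    obtain ⟨s, hs, o, ho, ⟨k, hk⟩, h4, rfl⟩ := exists_two_odd n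
    have h5 := H.syl.mem_of_mem_normalizer (mem_top s) hk (zpowers_le.2 hn hs)
    have h6 := zpowers_le.2 hn ho
    have h7 := conj_mem_of_mem_normalizer h6 hx
    have h8 := hW _ (mul_mem (inv_mem hx) h7) (h1 o h6 h4 x hx)
    have h9 : (⟨_, h7⟩ : S)⁻¹ * (⟨s, h5⟩ * ⟨_, h7⟩ * (⟨s, h5⟩ : S)⁻¹) ∈ M := by
      rw [mul_mem_iff_of_index_two hi, inv_mem_iff]
      exact (mem_normalizer_iff.1 (normalizer_eq_top M ▸ mem_top _) _)
    convert mul_mem h8 (mem_map_of_mem S.subtype h9) using 1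
    simp [mul_assoc]
  have : M = ⊤ := eq_top_iff.2 fun x _ => by
    obtain ⟨y, hy, e⟩ := h3 x.2
    rwa [← Subtype.ext e]
  simp [this] at hi

end Cfsg.Agent.Fil
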