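import Mathlib
import Cfsg.Agent.Fil.K

/-! Groups with abelian Sylow 2-intersections, II: failure of factorisation. -/

set_option autoImplicit false
set_option linter.unusedSectionVars false

namespace Cfsg.Agent.Fil

open Subgroup Cfsg.Agent.GW Cfsg.Agent.LocalEven Cfsg.Agent.BG Cfsg.Agent.Gs Cfsg.Agent.GsC
  Cfsg.Agent.PLocal

theorem ff_abs {K : Type*} [Group K] [Finite K] {V R X B : Subgroup K} [V.Normal]
    (hV : IsElementaryAbelian 2 V) (hR : IsSylowIn 2 R ⊤) (hRX : R ≤ X) (hC : 𝐂(V) ≤ X)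
    (hX : X ≠ ⊤) (ti : ∀ r ∈ R, r ∉ 𝐂(V) → ∀ n, n * r * n⁻¹ ∈ R ⊔ 𝐂(V) → n ∈ X)
    (hB : IsElementaryAbelian 2 B) (hBR : B ≤ R) (h0 : ¬ B ≤ 𝐂(V)) (h1 : B ⊓ 𝐂(V) ≤ V)
    (hc : Nat.card V ≤ Nat.card B) :
    (∀ r ∈ R, r ∉ 𝐂(V) → ∀ v ∈ V, r * v = v * r → v ∈ 𝐂(R)) ∧
    (∀ h ∉ X, ∀ r ∈ R, r ∉ 𝐂(V) → ∀ v ∈ V, r * v * r⁻¹ * v⁻¹ ∈ 𝐂(cj h R) → v ∈ 𝐂(R)) ∧
    R ≤ B ⊔ 𝐂(V) ∧ V ⊓ 𝐂(R) ≤ B := by
  set f := holRep V
  have hm : ∀ A a, f a ∈ Subgroup.map f A ↔ a ∈ A ⊔ 𝐂(V) := fun A a => by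
    rw [← mem_comap, comap_map_eq, ker_holRep]
  have hmX : ∀ a, f a ∈ X.map f ↔ a ∈ X := fun a => by rw [hm, sup_eq_left.2 hC]
  have hc' : ∀ A (v : V), SemidirectProduct.inl v ∈ 𝐂(Subgroup.map f A) ↔ (v : K) ∈ 𝐂(A) :=
    fun A v => ⟨fun k a ha => (holRep_comm_iff a v).1 (k _ ⟨a, ha, rfl⟩), fun k => by
      rintro _ ⟨a, ha, rfl⟩
      exact (holRep_comm_iff a v).2 (k a ha)⟩
  obtain ⟨A, hA, m, -⟩ := Push.exists_minOff (V := holV V) (elemAb_map hB f)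
    (fun e => h0 (ker_holRep (V := V) ▸ (Subgroup.map_eq_bot_iff _).1 e)) (by
      rw [card_holV, card_holV_inf_centralizer, mul_comm]
      refine hc.trans ((card_map_holRep (V := V) B).ge.trans (Nat.mul_le_mul_right _
        (card_le_of_le (le_inf h1 (inf_le_left.trans (elemAb_le_centralizer hB)))))))
  obtain ⟨hT, hG⟩ := Push.spe_struct (ea_holV hV) (H := Subgroup.map f ⊤)
    (le_top.trans (normalizer_eq_top _).ge) (map_holRep_inf_centralizer _) (hR.map f)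
    (map_mono hRX) (fun k => hX (eq_top_iff.2 fun a ha => (hmX a).1 (k (mem_map_of_mem f ha))))
    (fun R' r1 _ r2 r3 => by
      rintro _ ⟨⟨n, -, rfl⟩, hn⟩
      obtain ⟨_, ⟨k, hk, rfl⟩, h2⟩ := ((hR.mono hRX le_top).map f).exists_cj_le r2 r1
      obtain ⟨⟨y, hy⟩, y1⟩ := ne_bot_iff_exists_ne_one.1 r3
      obtain ⟨r, hr, e⟩ := h2 (conj_mem_cj hy)
      have h3 := h2 (conj_mem_cj (conj_mem_of_mem_normalizer hn hy))
      have h4 := ti r hr (fun k => y1 (Subtype.ext (by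
        rw [holRep_eq_one_iff.2 k, eq_comm, mul_inv_eq_one, mul_eq_left] at e
        exact e))) (k * n * k⁻¹) ((hm _ _).1 (by
          convert h3 using 1
          simp only [map_mul, map_inv, e]
          group))
      exact (hmX n).2 (by simpa [mul_assoc] using mul_mem (mul_mem (inv_mem hk) h4) hk))
    (hA.trans (map_mono le_top)) m
  have m1 : R.map f ∈ {Y | ∃ g ∈ Subgroup.map f ⊤, cj g (R.map f) = Y} := ⟨1, one_mem _, cj_one _⟩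
  have tv := hT.tv _ m1
  have fix : ∀ r ∈ R, r ∉ 𝐂(V) → ∀ v ∈ V, r * v = v * r → v ∈ 𝐂(R) := fun r hr h2 v hv e =>
    (hc' R ⟨v, hv⟩).1 (tv.fix _ (mem_map_of_mem f hr) (fun k => h2 (holRep_eq_one_iff.1 k)) _
      ⟨_, rfl⟩ ((holRep_comm_iff r ⟨v, hv⟩).2 e))
  have h5 : B ⊓ 𝐂(V) ≤ V ⊓ 𝐂(R) := fun x hx => by
    obtain ⟨b, b1, b2⟩ := SetLike.not_le_iff_exists.1 h0
    exact ⟨h1 hx, fix b (hBR b1) b2 x (h1 hx) (elemAb_le_centralizer hB hx.1 b b1)⟩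
  have h6 := Push.card_inf_mul_relIndex' 𝐂(R.map f) (holV V)
  rw [tv.idx, card_holV, card_holV_inf_centralizer] at h6
  have h7 := h6.le.trans (hc.trans (card_map_holRep (V := V) B).ge)
  refine ⟨fix, fun h hh r hr h2 v hv e => ?_, fun r hr => (hm _ _).1 ?_, ?_⟩
  · have m2 : (cj h R).map f ∈ {Y | ∃ g ∈ Subgroup.map f ⊤, cj g (R.map f) = Y} :=
      ⟨f h, mem_map_of_mem f (mem_top h), (Glaub.map_cj f h R).symm⟩
    have l := fun Y hY => le_pElementClosure (hT.tv Y hY).pgrp (hT.le Y hY)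
    have h3 := hG.gen _ m1 _ m2 (l _ m1) (l _ m2) fun k => hh (ti r hr h2 h ((hm _ _).1
      (k ▸ mem_map_of_mem f (conj_mem_cj hr))))
    refine (hc' R ⟨v, hv⟩).1 (((hG.nat _ m1 (l _ m1)).s2 _ (mem_map_of_mem f hr) _ ⟨_, rfl⟩
      ?_).resolve_left fun k => h2 (holRep_mem_centralizer.1 k))
    rw [← h3, centralizer_sup']
    refine ⟨tv.quad ?_, ?_⟩
    · rw [Subgroup.commutator_comm]
      exact commutator_mem_commutator (mem_map_of_mem f hr) ⟨_, rfl⟩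
    · rw [holRep_conj, ← map_inv, ← map_mul]
      exact (hc' _ _).2 e
  · rw [eq_of_le_of_card_le (map_mono hBR) (Nat.le_of_mul_le_mul_left
      (h7.trans (Nat.mul_le_mul_right _ (card_le_of_le h5))) Nat.card_pos)]
    exact mem_map_of_mem f hr
  · rw [← eq_of_le_of_card_le h5 (Nat.le_of_mul_le_mul_right
      (h7.trans (Nat.mul_le_mul_left _ (card_le_of_le (map_mono hBR)))) Nat.card_pos)]
    exact inf_le_left

variable {G : Type*} [Group G] [Finite G] {S D E B M W : Subgroup G} {a b g h n r d o v x y : G}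

abbrev RR (S D : Subgroup G) : Subgroup G := S ⊓ 𝐍(D)

structure FF (S D B : Subgroup G) : Prop where
  fix : ∀ r ∈ RR S D, r ∉ D → ∀ v ∈ OZ D, r * v = v * r → v ∈ 𝐂(RR S D)
  s2 : ∀ h ∈ 𝐍(D), h ∉ XX S D → ∀ r ∈ RR S D, r ∉ D → ∀ v ∈ OZ D,
    r * v * r⁻¹ * v⁻¹ ∈ 𝐂(cj h (RR S D)) → v ∈ 𝐂(RR S D)
  dec : ∀ r ∈ RR S D, ∃ b ∈ B, ∃ d ∈ D, b * d = r
  inf : OZ D ⊓ 𝐂(RR S D) ≤ B

theorem ea_OZ (D : Subgroup G) : IsElementaryAbelian 2 (OZ D) :=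
  ⟨le_centralizer_iff_isMulCommutative.1 fun _ ha b hb => ha.2.1 b hb.1,
    fun a ha => by rw [sq, ha.2.2]⟩

theorem Mem.ff (hD : Mem S D) (H : AH S) (hE : Mem S E) (hne : E ≠ D) (h1 : OZ E ≤ 𝐍(D))
    (hc : Nat.card (OZ D) ≤ Nat.card (OZ E)) : FF S D (OZ E) := by
  have v1 : OZ D ≤ 𝐍(D) := OZ_le.trans le_normalizer
  haveI : ((OZ D).subgroupOf 𝐍(D)).Normal := QuoApi.normal_subgroupOf norm_OZ
  have c1 : 𝐂((OZ D).subgroupOf 𝐍(D)) = 𝐂(D).subgroupOf 𝐍(D) := by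
    rw [centralizer_subgroupOf v1]
    exact Subgroup.ext fun x => ⟨fun k => hD.f1 H ⟨x.2, k⟩, fun k => cent_anti OZ_le k⟩
  have c2 : 𝐂((RR S D).subgroupOf 𝐍(D)) = 𝐂(RR S D).subgroupOf 𝐍(D) :=
    centralizer_subgroupOf inf_le_right
  have c3 : ∀ r ∈ RR S D, r ∉ D → r ∉ 𝐂(D) := fun r hr k l => k (hD.sc ⟨hr.1, l⟩)
  obtain ⟨f1, f2, f3, f4⟩ := ff_abs (V := (OZ D).subgroupOf 𝐍(D)) (X := (XX S D).subgroupOf 𝐍(D))
    (B := (OZ E).subgroupOf 𝐍(D)) (elemAb_subgroupOf (ea_OZ D) _)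
    (by simpa using (hD.syl H).subgroupOf le_rfl : IsSylowIn 2 ((RR S D).subgroupOf 𝐍(D)) ⊤)
    (fun x hx => mem_sup_right (mem_inf.2 ⟨x.2, le_normalizer hx.1⟩))
    (c1 ▸ fun x hx => mem_sup_left hx) (fun e => hD.out (subgroupOf_eq_top.1 e))
    (fun r hr k n l => hD.ti H hr (fun e => k (c1 ▸ hD.ab e)) n.2 (by
      rw [c1, ← subgroupOf_sup inf_le_right (cent_le_norm' D), sup_comm] at l
      exact l))
    (elemAb_subgroupOf (ea_OZ E) _) (fun x hx => ⟨hE.le hx.1, x.2⟩)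
    (fun k => hne (hE.eq_of H hD fun x hx => hD.sc ⟨hE.le hx.1, by
      rw [c1] at k; exact k (x := ⟨x, h1 hx⟩) hx⟩))
    (by rw [c1]; exact fun x hx => hD.mem_V (hD.sc ⟨hE.le hx.1.1, hx.2⟩) hx.1.2.2)
    (by rwa [card_subgroupOf v1, card_subgroupOf h1])
  rw [c1] at f1 f2 f3
  rw [c2] at f1 f2 f4
  refine ⟨fun r hr k v hv e => f1 ⟨r, hr.2⟩ hr (c3 r hr k) ⟨v, v1 hv⟩ hv (Subtype.ext e),
    fun h hh l r hr k v hv e => f2 ⟨h, hh⟩ l ⟨r, hr.2⟩ hr (c3 r hr k) ⟨v, v1 hv⟩ hv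
      fun y hy => Subtype.ext (e _ (mem_cj.2 (mem_subgroupOf.1 (mem_cj.1 hy)))), fun r hr => ?_,
    fun v hv => f4 (x := ⟨v, v1 hv.1⟩) hv⟩
  rw [← subgroupOf_sup h1 (cent_le_norm' D)] at f3
  obtain ⟨b, hb, d, hd, rfl⟩ := (mem_sup_iff_of_le_normalizer
    (h1.trans (normalizer_le_normalizer_centralizer D))).1 (f3 (x := ⟨r, hr.2⟩) hr)
  exact ⟨b, hb, d, hD.sc ⟨by simpa using mul_mem (inv_mem (hE.le hb.1)) hr.1, hd⟩, rfl⟩

theorem c2_of (hD : Mem S D) (hE : Mem S E) (n1 : S ≤ 𝐍(D)) (n2 : S ≤ 𝐍(E))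
    (h : ∀ s ∈ S, ∃ b ∈ E, ∃ d ∈ D, b * d = s) : C2 S := by
  have h1 : D ⊓ E ≤ 𝐂(S) := fun z hz s hs => by
    obtain ⟨b, hb, d, hd, rfl⟩ := h s hs
    rw [mul_assoc, hD.comm hd hz.1, ← mul_assoc, hE.comm hb hz.2, mul_assoc]
  have h2 : ∀ b ∈ E, ∀ d ∈ D, b * d * b⁻¹ * d⁻¹ ∈ D ⊓ E := fun b hb d hd =>
    mem_inf.2 ⟨mul_mem (conj_mem_of_mem_normalizer (n1 (hE.le hb)) hd) (inv_mem hd), by
      simpa [mul_assoc] using
        mul_mem hb (conj_mem_of_mem_normalizer (n2 (hD.le hd)) (inv_mem hb))⟩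
  intro s hs t ht
  obtain ⟨b, hb, d, hd, rfl⟩ := h s hs
  obtain ⟨b', hb', d', hd', rfl⟩ := h t ht
  have n := (le_normalizer (H := S)).trans (normalizer_le_normalizer_centralizer S)
  convert mul_mem (conj_mem_of_mem_normalizer (n (hE.le hb)) (h1 (inv_mem (h2 b' hb' d hd))))
    (conj_mem_of_mem_normalizer (n (hE.le hb')) (h1 (h2 b hb d' hd'))) using 1
  calc b * d * (b' * d') * (b * d)⁻¹ * (b' * d')⁻¹
      = b * d * b' * (d' * d⁻¹) * b⁻¹ * d'⁻¹ * b'⁻¹ := by group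
    _ = b * d * b' * d⁻¹ * b'⁻¹ * (b' * b⁻¹) * b * d' * b⁻¹ * d'⁻¹ * b'⁻¹ := by
      rw [hD.comm hd' (inv_mem hd)]; group
    _ = _ := by rw [hE.comm hb' (inv_mem hb)]; group

theorem AH.nonnormal (H : AH S) : ∃ D, Mem S D ∧ ¬ S ≤ 𝐍(D) := by
  by_contra! k
  by_cases h : ∃ D, Mem S D
  · obtain ⟨D, hD⟩ := h
    refine hD.V_ne H (H.clo (OZ_le.trans hD.le) (fun w hw => hw.2.2) ?_ ?_)
    all_goals
      have u : ∀ E, Mem S E → E = D := fun E hE => by_contra fun e => by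
        wlog c : Nat.card (OZ D) ≤ Nat.card (OZ E) generalizing D E
        · exact this E hE D hD (Ne.symm e) (not_le.1 c).le
        refine H.nc (c2_of hD hE (k D hD) (k E hE) fun s hs => ?_)
        obtain ⟨b, hb, l⟩ := (hD.ff H hE e (OZ_le.trans (hE.le.trans (k D hD))) c).dec s
          ⟨hs, k D hD hs⟩
        exact ⟨b, hb.1, l⟩
    · exact fun g hg => norm_OZ (cj_eq_self_iff.1 (u _ (hD.cj hg)))
    · intro E hE h hh r hr d _ hd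
      obtain rfl := u E hE
      exact conj_mem_of_mem_normalizer (norm_OZ (cj_le_of_mem hh inf_le_right hr)) hd
  · refine OZ_ne_bot H.two (fun e => H.nab (e.le.trans bot_le)) (H.clo OZ_le (fun w hw => hw.2.2)
      norm_OZ fun E hE => absurd ⟨E, hE⟩ h)

end Cfsg.Agent.Fil
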