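import Mathlib
import Cfsg.Agent.Fil.L

/-! Groups with abelian Sylow 2-intersections, III: non-normal members. -/

set_option autoImplicit false
set_option linter.unusedSectionVars false

namespace Cfsg.Agent.Fil

open Subgroup Cfsg.Agent.GW Cfsg.Agent.LocalEven Cfsg.Agent.BG Cfsg.Agent.Gs Cfsg.Agent.GsC

variable {G : Type*} [Group G] [Finite G] {S D E A W : Subgroup G} {a b g h n r d o t v w x y z : G}

theorem card_le_two (h : ∀ a ∈ W, ∀ b ∈ W, a ∉ A → b ∉ A → a * b ∈ A) :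
    Nat.card W ≤ Nat.card (W ⊓ A : Subgroup G) * 2 := by
  rw [← Push.card_inf_mul_relIndex' A W]
  refine Nat.mul_le_mul_left _ ?_
  by_cases k : W ≤ A
  · rw [relIndex_eq_one.2 k]; norm_num
  obtain ⟨a, a1, a2⟩ := SetLike.not_le_iff_exists.1 k
  refine (index_eq_two_iff.2 ⟨⟨a, a1⟩, fun b => ?_⟩ : (A.subgroupOf W).index = 2).le
  by_cases hb : (b : G) ∈ A
  · exact Or.inr ⟨hb, fun l => a2 ((mul_mem_cancel_left hb).1 l)⟩
  · exact Or.inl ⟨h b b.2 a a1 hb a2, hb⟩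

theorem of_card_le_two (h : Nat.card W ≤ Nat.card (W ⊓ A : Subgroup G) * 2) (ha : a ∈ W)
    (hb : b ∈ W) (h1 : a ∉ A) (h2 : b ∉ A) : a * b ∈ A := by
  rw [← Push.card_inf_mul_relIndex' A W] at h
  have h3 := Nat.le_of_mul_le_mul_left h Nat.card_pos
  have h4 := Push.relIndex_pos A W
  have h5 : A.relIndex W ≠ 1 := fun e => h1 (relIndex_eq_one.1 e ha)
  exact (mul_mem_iff_of_index_two (H := A.subgroupOf W) (a := ⟨a, ha⟩) (b := ⟨b, hb⟩)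
    (by unfold relIndex at *; omega)).2 (iff_of_false h1 h2)

theorem inv_of_sq (h : a * a = 1) : a⁻¹ = a := inv_eq_of_mul_eq_one_right h

structure NN (S D : Subgroup G) (x : G) : Prop where
  H : AH S
  mem : Mem S D
  xS : x ∈ S
  xN : x ∈ 𝐍(RR S D)
  xR : x ∉ RR S D

def Q2 (S D : Subgroup G) : Prop :=
  ∀ a ∈ OZ D, ∀ b ∈ OZ D, a ∉ 𝐂(RR S D) → b ∉ 𝐂(RR S D) → a * b ∈ 𝐂(RR S D)

theorem Mem.exNN (hD : Mem S D) (H : AH S) (h : ¬ S ≤ 𝐍(D)) : ∃ x, NN S D x := by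
  obtain ⟨x, x1, x2, x3⟩ := exists_mem_normalizer_of_lt H.two
    (lt_of_le_of_ne (inf_le_left : RR S D ≤ S) fun e => h (e.ge.trans inf_le_right))
  exact ⟨x, H, hD, x1, x2, x3⟩

namespace NN

variable (N : NN S D x)
include N

theorem of (h1 : y ∈ S) (h2 : y ∈ 𝐍(RR S D)) (h3 : y ∉ RR S D) : NN S D y := ⟨N.H, N.mem, h1, h2, h3⟩

theorem mem' : Mem S (cj x D) := N.mem.cj (le_normalizer N.xS)

theorem R' : RR S (cj x D) = RR S D := by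
  rw [RR, ← cj_normalizer, ← cj_eq_of_mem N.xS, ← cj_inf, cj_eq_of_mem N.xS]
  exact cj_eq_of_mem_normalizer N.xN

theorem le' : cj x D ≤ RR S D := N.R' ▸ N.mem'.leR

theorem ne : cj x D ≠ D := fun e => N.xR ⟨N.xS, cj_eq_self_iff.1 e⟩

theorem ff : FF S D (OZ (cj x D)) := N.mem.ff N.H N.mem' N.ne
  (OZ_le.trans (N.le'.trans inf_le_right)) (by rw [← cj_OZ, card_cj])

theorem ff' : FF S (cj x D) (OZ D) := N.mem'.ff N.H N.mem N.ne.symm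
  (OZ_le.trans ((N.mem.leR.trans N.R'.ge).trans inf_le_right)) (by rw [← cj_OZ, card_cj])

theorem cR (hz : z ∈ S) (h : z ∈ 𝐂(RR S D)) : z ∈ D ⊓ cj x D :=
  ⟨N.mem.sc ⟨hz, cent_anti N.mem.leR h⟩, N.mem'.sc ⟨hz, cent_anti N.le' h⟩⟩

theorem Rc (h1 : z ∈ D) (h2 : z ∈ cj x D) : z ∈ 𝐂(RR S D) := fun r hr => by
  obtain ⟨b, hb, d, hd, rfl⟩ := N.ff.dec r hr
  rw [mul_assoc, N.mem.comm hd h1, ← mul_assoc, N.mem'.comm hb.1 h2, mul_assoc]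

theorem decD (hd : d ∈ D) : ∃ v ∈ OZ D, ∃ z ∈ D, z ∈ 𝐂(RR S D) ∧ v * z = d := by
  obtain ⟨v, hv, z, hz, rfl⟩ := N.ff'.dec d (N.R'.ge (N.mem.leR hd))
  have := (mul_mem_cancel_left hv.1).1 hd
  exact ⟨v, hv, z, this, N.Rc this hz, rfl⟩

theorem sq (hd : d ∈ D) (hh : h ∈ 𝐍(D)) : d * d ∈ 𝐂(cj h (RR S D)) := by
  obtain ⟨v, hv, z, h1, h2, e⟩ := N.decD (conj_mem_of_mem_normalizer (inv_mem hh) hd)
  rw [← cj_centralizer, mem_cj]
  convert mul_mem h2 h2 using 1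
  calc _ = v * z * (v * z) := by rw [e]; group
    _ = v * (z * v) * z := by group
    _ = _ := by rw [N.mem.comm h1 hv.1, ← mul_assoc, hv.2.2, one_mul]

theorem f3 (hr : r ∈ RR S D) (h0 : r ∉ D) (hv : v ∈ OZ D) (hd : d ∈ D)
    (e : r * v * r⁻¹ * v⁻¹ = d * d) : v ∈ 𝐂(RR S D) := by
  obtain ⟨h, h1, h2⟩ := SetLike.not_le_iff_exists.1 N.mem.out
  exact N.ff.s2 h h1 h2 r hr h0 v hv (e ▸ N.sq hd h1)

theorem invol (ht : t ∈ RR S D) (h : t * t = 1) : t ∈ OZ D ∨ t ∈ OZ (cj x D) := by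
  refine (em (t ∈ D)).imp (N.mem.mem_V · h) fun k => N.mem'.mem_V ?_ h
  obtain ⟨b, hb, d, hd, rfl⟩ := N.ff.dec t ht
  obtain ⟨v, hv, z, h1, h2, rfl⟩ := N.decD hd
  have b1 := N.le' hb.1
  have h3 := N.f3 b1 (fun l => k (mul_mem l hd)) hv (inv_mem h1) (by
    rw [inv_of_sq hb.2.2, inv_of_sq hv.2.2, ← mul_inv_rev, eq_inv_iff_mul_eq_one, ← h]
    calc _ = b * v * (b * v * z) * z := by group
      _ = _ := by rw [h2 _ (mul_mem b1 (N.mem.leR hv.1))]; group)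
  exact mul_mem hb.1 (mul_mem (N.cR (N.mem.le hv.1) h3).2 (N.cR (N.mem.le h1) h2).2)

theorem sub (hW : W ≤ RR S D) (h : ∀ w ∈ W, w * w = 1) : W ≤ OZ D ∨ W ≤ OZ (cj x D) := by
  by_contra! k
  obtain ⟨a, a1, a2⟩ := SetLike.not_le_iff_exists.1 k.1
  obtain ⟨b, b1, b2⟩ := SetLike.not_le_iff_exists.1 k.2
  rcases N.invol (hW (mul_mem a1 b1)) (h _ (mul_mem a1 b1)) with e | e
  · exact a2 ((mul_mem_cancel_right ((N.invol (hW b1) (h b b1)).resolve_right b2)).1 e)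
  · exact b2 ((mul_mem_cancel_left ((N.invol (hW a1) (h a a1)).resolve_left a2)).1 e)

theorem two (hE : Mem S E) (h : OZ E ≤ RR S D) : E = D ∨ E = cj x D :=
  (N.sub h fun _ hw => hw.2.2).imp (fun k => hE.eq_of N.H N.mem (k.trans OZ_le))
    fun k => hE.eq_of N.H N.mem' (k.trans OZ_le)

theorem two' (hE : Mem S E) (h : OZ E ≤ RR S D) : E ≤ RR S D := by
  rcases N.two hE h with rfl | rfl
  exacts [N.mem.leR, N.le']

theorem mul (N' : NN S D y) : x * y ∈ RR S D := by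
  refine ⟨mul_mem N.xS N'.xS, cj_eq_self_iff.1 ?_⟩
  rw [cj_mul, cj_eq_iff]
  exact ((N.of (inv_mem N.xS) (inv_mem N.xN) fun k => N.xR (inv_mem_iff.1 k)).two N'.mem'
    (OZ_le.trans N'.le')).resolve_left N'.ne

theorem WR (hx : x ∈ 𝐍(W)) (h : ∀ w ∈ W, w * w = 1) : W ⊓ RR S D ≤ 𝐂(RR S D) := fun w hw => by
  have n : x ∈ 𝐍((W ⊓ RR S D : Subgroup G)) := inf_normalizer_le_normalizer_inf ⟨hx, N.xN⟩
  rcases N.sub inf_le_right fun w (hw : w ∈ W ⊓ RR S D) => h w hw.1 with k | k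
  · exact N.Rc (k hw).1 (mem_cj.2 (by
      simpa using (k (conj_mem_of_mem_normalizer (inv_mem n) hw)).1))
  · exact N.Rc (conj_mem_cj_iff.1 (k (conj_mem_of_mem_normalizer n hw)).1) (k hw).1

theorem nonnormal (hE : Mem S E) : ¬ S ≤ 𝐍(E) := fun n => by
  have n1 := n.trans norm_OZ
  have h1 := N.WR (n1 N.xS) fun w hw => hw.2.2
  have h2 : ¬ OZ E ≤ RR S D := fun k => N.xR (by
    rcases N.two hE k with rfl | rfl
    · exact ⟨N.xS, n N.xS⟩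
    · exact N.R' ▸ ⟨N.xS, n N.xS⟩)
  have h3 : RR S D ⊔ OZ E ≤ S := sup_le inf_le_left (OZ_le.trans hE.le)
  obtain ⟨y, y1, y2, y3⟩ := exists_mem_normalizer_of_lt (N.H.two.to_le h3)
    (lt_of_le_of_ne le_sup_left fun e => h2 (le_sup_right.trans e.ge))
  obtain ⟨r, hr, w, hw, rfl⟩ := (mem_sup_iff_of_le_normalizer (inf_le_left.trans n1)).1 y1
  have h4 : w ∈ 𝐍(RR S D) := (mul_mem_cancel_left (le_normalizer hr)).1 y2
  refine y3 (mul_mem hr ⟨hE.le hw.1, mem_normalizer_of_cj_le (cj_le_iff'.2 fun d hd => ?_)⟩)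
  have h5 : w * d * w⁻¹ * d⁻¹ ∈ OZ E ⊓ RR S D := mem_inf.2 ⟨by
    simpa [mul_assoc] using mul_mem hw (conj_mem_of_mem_normalizer (n1 (N.mem.le hd)) (inv_mem hw)),
    mul_mem (conj_mem_of_mem_normalizer h4 (N.mem.leR hd)) (inv_mem (N.mem.leR hd))⟩
  exact (mul_mem_cancel_right (inv_mem hd)).1 (N.cR h5.2.1 (h1 h5)).1

theorem q2R (q : Q2 S D) (ha : a ∈ RR S D) (hb : b ∈ RR S D) (h1 : a ∉ D) (h2 : b ∉ D) :
    a * b ∈ D := by
  obtain ⟨a, a1, d, hd, rfl⟩ := N.ff.dec a ha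
  obtain ⟨b, b1, e, he, rfl⟩ := N.ff.dec b hb
  have n := normalizer_le_normalizer_centralizer _ N.xN
  rw [← cj_OZ] at a1 b1
  replace a1 := mem_cj'.1 a1
  replace b1 := mem_cj'.1 b1
  obtain ⟨a, a1, rfl⟩ := a1
  obtain ⟨b, b1, rfl⟩ := b1
  have k : ∀ v ∈ S, v ∈ 𝐂(RR S D) → x * v * x⁻¹ ∈ D := fun v hv l =>
    (N.cR (conj_mem_of_mem_normalizer (le_normalizer N.xS) hv) (conj_mem_of_mem_normalizer n l)).1
  have h3 := k _ (N.mem.le (mul_mem a1.1 b1.1)) (q a a1 b b1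
    (fun l => h1 (mul_mem (k a (N.mem.le a1.1) l) hd)) fun l => h2 (mul_mem (k b (N.mem.le b1.1) l) he))
  have h4 := conj_mem_of_mem_normalizer (inv_mem (N.le' (conj_mem_cj (g := x) b1.1)).2) hd
  convert mul_mem (mul_mem h3 h4) he using 1
  group

theorem normR (h1 : cj g D ≤ RR S D) (h2 : cj g (cj x D) ≤ RR S D) : g ∈ 𝐍(RR S D) :=
  mem_normalizer_of_cj_le (cj_le_iff'.2 fun r hr => by
    obtain ⟨b, hb, d, hd, rfl⟩ := N.ff.dec r hr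
    convert mul_mem (h2 (conj_mem_cj hb.1)) (h1 (conj_mem_cj hd)) using 1
    group)

theorem vb (hv : v ∈ OZ D) (hb : b ∈ OZ (cj x D)) :
    b * v * b⁻¹ * v⁻¹ ∈ OZ D ∧ b * v * b⁻¹ * v⁻¹ ∈ 𝐂(RR S D) := by
  have h1 := mul_mem (conj_mem_of_mem_normalizer (norm_OZ (N.le' hb.1).2) hv) (inv_mem hv)
  refine ⟨h1, N.Rc h1.1 ?_⟩
  simpa [mul_assoc] using
    mul_mem hb.1 (conj_mem_of_mem_normalizer (N.R'.ge (N.mem.leR hv.1)).2 (inv_mem hb.1))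

theorem big (q : ¬ Q2 S D) (hE : Mem S E) (h : OZ E ≤ 𝐍(RR S D))
    (c : Nat.card (OZ D) ≤ Nat.card (OZ E)) : E ≤ RR S D := by
  refine N.two' hE (by_contra fun k => q fun a ha b hb => of_card_le_two ?_ ha hb)
  obtain ⟨w, w1, w2⟩ := SetLike.not_le_iff_exists.1 k
  have h1 := (N.of (hE.le w1.1) (h w1) w2).WR (le_normalizer w1) fun w hw => hw.2.2
  refine c.trans ((card_le_two (W := OZ E) (A := RR S D) fun a ha b hb h1 h2 => (N.of (hE.le ha.1) (h ha) h1).mul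
    (N.of (hE.le hb.1) (h hb) h2)).trans (Nat.mul_le_mul_right _ (card_le_of_le fun a ha => ?_)))
  exact ⟨N.mem.mem_V (N.cR ha.2.1 (h1 ha)).1 ha.1.2.2, h1 ha⟩

theorem allN (q : ¬ Q2 S D) : S ≤ 𝐍(RR S D) := by
  by_contra e
  obtain ⟨y, y1, y2, y3⟩ := exists_mem_normalizer_of_lt N.H.two
    (lt_of_le_of_ne (inf_le_left : S ⊓ 𝐍(RR S D) ≤ S) fun k => e (k.ge.trans inf_le_right))
  have k : ∀ E, Mem S E → E ≤ RR S D → Nat.card (OZ D) ≤ Nat.card (OZ E) → cj y E ≤ RR S D :=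
    fun E hE h c => N.big q (hE.cj (le_normalizer y1)) (OZ_le.trans ((cj_le_of_mem_normalizer y2
      (le_inf hE.le (h.trans le_normalizer))).trans inf_le_right)) (by rwa [← cj_OZ, card_cj])
  exact y3 ⟨y1, N.normR (k D N.mem N.mem.leR le_rfl) (k _ N.mem' N.le' (by rw [← cj_OZ, card_cj]))⟩

theorem rv (hE : Mem S E) (n : S ≤ 𝐍(RR S D)) (hx : x ∈ OZ E) (hv : v ∈ OZ D)
    (h0 : v ∉ 𝐂(RR S D)) (e : r = v * (x * v * x⁻¹)) :
    r ∈ RR S D ∧ r ∈ RR S E ∧ r * x * r⁻¹ * x⁻¹ = r * r ∧ r ∉ cz x := by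
  have b1 : x * v * x⁻¹ ∈ OZ (cj x D) := cj_OZ x D ▸ conj_mem_cj hv
  have h1 : r ∈ RR S D := e ▸ mul_mem (N.mem.leR hv.1) (N.le' b1.1)
  have x2 := hx.2.2
  have v2 := hv.2.2
  have h2 : x * r⁻¹ * x⁻¹ = r := by
    rw [e, mul_inv_rev, inv_of_sq v2, inv_of_sq b1.2.2]
    calc _ = x * x * v * (x⁻¹ * v * x⁻¹) := by group
      _ = _ := by rw [x2, one_mul, inv_of_sq x2]
  have h3 : r * x * r⁻¹ * x⁻¹ = r * r := by rw [mul_assoc r, mul_assoc r, h2]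
  have h4 : r * r = (x * v * x⁻¹ * v * (x * v * x⁻¹)⁻¹ * v⁻¹)⁻¹ := by
    rw [e]
    nth_rw 3 [← inv_of_sq v2]
    nth_rw 2 [← inv_of_sq b1.2.2]
    group
  obtain ⟨h5, h6⟩ := (N.vb hv b1).imp inv_mem inv_mem
  rw [← h4] at h5 h6
  have k : ∀ w ∈ OZ E, w ∉ RR S D → x * w ∈ RR S D := fun w hw l =>
    N.mul (N.of (hE.le hw.1) (n (hE.le hw.1)) l)
  have h7 : r * r ∈ OZ E := hE.mem_V (hE.cV N.H ⟨mul_mem h1.1 h1.1, fun w hw => by
    by_cases l : w ∈ RR S D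
    · exact h6 w l
    have h8 : x * (r * r) = r * r * x := by
      rw [← mul_inv_eq_iff_eq_mul]
      nth_rw 1 [← inv_of_sq h5.2.2]
      conv_rhs => rw [← h2]
      group
    apply mul_left_cancel (a := x)
    rw [← mul_assoc, h6 _ (k w hw l), ← mul_assoc, ← h8, mul_assoc]⟩) h5.2.2
  have h8 := N.WR (le_normalizer hx) fun w hw => hw.2.2
  refine ⟨h1, ⟨h1.1, hE.nV N.H (le_normalizer h1.1) (mem_normalizer_of_cj_le
    (cj_le_iff'.2 fun w hw => ?_))⟩, h3, fun l => h0 (N.ff.fix _ (N.le' b1.1) (fun m => h0 ?_) v hv ?_)⟩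
  · have k2 : ∀ w ∈ OZ E, w ∈ RR S D → r * w * r⁻¹ = w := fun w hw l => by
      rw [h8 ⟨hw, l⟩ r h1]; group
    by_cases l : w ∈ RR S D
    · rwa [k2 w hw l]
    have := mul_mem (inv_mem (mul_mem h7 hx)) (mul_mem hx hw)
    rw [← h3, ← k2 _ (mul_mem hx hw) (k w hw l)] at this
    convert this using 1
    group
  · exact (mem_normalizer_iff.1 (normalizer_le_normalizer_centralizer _ N.xN) v).2 (N.Rc m b1.1)
  · have h9 := inv_of_sq (show r * r = 1 by rw [← h3, mem_cz.1 l]; group)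
    rwa [e, mul_inv_rev, inv_of_sq v2, inv_of_sq b1.2.2] at h9

end NN

theorem AH.nn (H : AH S) (hD : Mem S D) : ∃ x, NN S D x := by
  obtain ⟨E, hE, h⟩ := H.nonnormal
  obtain ⟨y, N⟩ := hE.exNN H h
  exact hD.exNN H (N.nonnormal hD)

theorem AH.q2 (H : AH S) (hD : Mem S D) : Q2 S D := by
  by_contra q
  obtain ⟨x, N⟩ := H.nn hD
  have n := N.allN q
  have h1 : ∀ E, Mem S E → E ≤ RR S D := fun E hE => N.two' hE (by_contra fun k => by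
    obtain ⟨x, x1, x2⟩ := SetLike.not_le_iff_exists.1 k
    replace N := N.of (hE.le x1.1) (n (hE.le x1.1)) x2
    obtain ⟨y, NE⟩ := H.nn hE
    simp only [Q2, not_forall] at q
    obtain ⟨a, ha, b, hb, a1, b1, c1⟩ := q
    obtain ⟨r1, r2, -, r4⟩ := N.rv hE n x1 ha a1 rfl
    obtain ⟨-, s2, -, s4⟩ := N.rv hE n x1 hb b1 rfl
    obtain ⟨t1, t2, t3, t4⟩ := N.rv hE n x1 (mul_mem ha hb) c1 rfl
    have e1 : ∀ r ∉ cz x, r ∉ E := fun r hr l => hr (mem_cz.2 (hE.comm l x1.1))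
    have h8 := N.WR (le_normalizer x1) fun w hw => hw.2.2
    have h9 : OZ E ⊓ RR S D ≤ 𝐂(RR S E) := fun w hw =>
      NE.ff.fix _ r2 (e1 _ r4) w hw.1 (h8 hw _ r1)
    have q' : Q2 S E := fun v hv w hw v1 w1 => h9 ⟨mul_mem hv hw,
      (N.of (hE.le hv.1) (n (hE.le hv.1)) fun l => v1 (h9 ⟨hv, l⟩)).mul
        (N.of (hE.le hw.1) (n (hE.le hw.1)) fun l => w1 (h9 ⟨hw, l⟩))⟩
    refine t4 (mem_cz.2 (NE.f3 t2 (e1 _ t4) x1 (NE.q2R q' r2 s2 (e1 _ r4) (e1 _ s4)) ?_ _ t2))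
    obtain ⟨z1, z2⟩ := N.vb hb (cj_OZ x D ▸ conj_mem_cj ha)
    rw [t3]
    set z := x * a * x⁻¹ * b * (x * a * x⁻¹)⁻¹ * b⁻¹ with hz
    have e2 : a * (x * a * x⁻¹) * (b * (x * b * x⁻¹)) = z * (a * b * (x * (a * b) * x⁻¹)) := by
      rw [← mul_assoc, ← mul_assoc z, ← mul_assoc z, ← hD.comm ha.1 z1.1, hz]
      group
    rw [e2, mul_assoc z, ← mul_assoc _ z, z2 _ t1, mul_assoc z, ← mul_assoc z, z1.2.2, one_mul])
  refine N.xR (H.foc' (fun o ho _ s hs => ?_) (fun E hE h hh r hr d hd => h1 E hE (mul_mem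
    (inv_mem hd) (conj_mem_of_mem_normalizer (cj_le_of_mem hh inf_le_right hr) hd))) N.xS)
  have h2 := mem_normalizer_iff.1 (N.normR (h1 _ (hD.cj ho)) (h1 _ (N.mem'.cj ho))) s
  have h3 := conj_mem_of_mem_normalizer ho hs
  by_cases k : s ∈ RR S D
  · exact mul_mem (inv_mem k) (h2.1 k)
  · exact (N.of (inv_mem hs) (n (inv_mem hs)) fun l => k (inv_mem_iff.1 l)).mul
      (N.of h3 (n h3) fun l => k (h2.2 l))

end Cfsg.Agent.Fil
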