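import Mathlib
import Cfsg.Agent.Fil.M
import Cfsg.Agent.Classical.DihRecog
import Cfsg.Agent.Comp2.Hsub

/-! Groups with abelian Sylow 2-intersections, IV: the dihedral case. -/

set_option autoImplicit false
set_option linter.unusedSectionVars false

namespace Cfsg.Agent.Fil

open Subgroup Cfsg.Agent.GW Cfsg.Agent.LocalEven Cfsg.Agent.BG Cfsg.Agent.Gs Cfsg.Agent.GsC

variable {G : Type*} [Group G] [Finite G] {S D E : Subgroup G} {a b c e g h k r d o s t u v w x y : G}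

def IsC (S D : Subgroup G) (c : G) : Prop :=
  ∀ r ∈ RR S D, r ∉ D → ∀ d ∈ D, d ∉ 𝐂(RR S D) → r * d * r⁻¹ = c * d

def ID (S D : Subgroup G) (c w : G) : Prop := ∃ h ∈ 𝐍(D), h ∉ XX S D ∧ h * c * h⁻¹ = w

theorem cj_RR (hg : g ∈ 𝐍(S)) : cj g (RR S D) = RR S (cj g D) := by
  rw [RR, cj_inf, cj_normalizer, cj_eq_of_mem_normalizer hg]

theorem cj_XX (hg : g ∈ 𝐍(S)) : cj g (XX S D) = XX S (cj g D) := by
  rw [XX, cj_sup, cj_inf, cj_centralizer, cj_normalizer, cj_eq_of_mem hg, XX]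

theorem IsC.cj (hc : IsC S D c) (hg : g ∈ 𝐍(S)) : IsC S (cj g D) (g * c * g⁻¹) := by
  intro r hr r1 d hd d1
  rw [← cj_RR hg] at hr d1
  rw [← cj_centralizer] at d1
  rw [mem_cj] at hr r1 hd d1
  calc _ = g * (g⁻¹ * r * g * (g⁻¹ * d * g) * (g⁻¹ * r * g)⁻¹) * g⁻¹ := by group
    _ = _ := by rw [hc _ hr r1 _ hd d1]; group

theorem ID.cj (hw : ID S D c w) (hg : g ∈ 𝐍(S)) : ID S (cj g D) (g * c * g⁻¹) (g * w * g⁻¹) := by
  obtain ⟨h, h1, h2, rfl⟩ := hw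
  exact ⟨g * h * g⁻¹, cj_normalizer g D ▸ conj_mem_cj h1,
    fun k => h2 (conj_mem_cj_iff.1 (cj_XX hg ▸ k)), by group⟩

theorem inv_zp (h : u * s * u⁻¹ = s⁻¹) (ht : t ∈ zpowers s) : u * t * u⁻¹ = t⁻¹ := by
  obtain ⟨n, rfl⟩ := ht
  rw [← conj_zpow, h, inv_zpow]

theorem ex_four (n : ℕ) : ∀ t ∈ zpowers s, t ^ 2 ^ n = 1 → t * t ≠ 1 →
    ∃ t ∈ zpowers s, t * t ≠ 1 ∧ t * t * (t * t) = 1 := by
  induction n with
  | zero => intro t _ h1 h2; simp_all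
  | succ n ih =>
    intro t ht h1 h2
    by_cases k : t * t * (t * t) = 1
    · exact ⟨t, ht, h2, k⟩
    exact ih _ (mul_mem ht ht) (by rw [← sq, ← pow_mul, ← pow_succ', h1]) k

namespace Mem

variable (hD : Mem S D) (H : AH S)
include hD H

theorem q2D (ha : a ∈ D) (hb : b ∈ D) (h1 : a ∉ 𝐂(RR S D)) (h2 : b ∉ 𝐂(RR S D)) :
    a * b ∈ 𝐂(RR S D) := by
  obtain ⟨x, N⟩ := H.nn hD
  obtain ⟨v, hv, z, z1, z2, rfl⟩ := N.decD ha
  obtain ⟨w, hw, y, y1, y2, rfl⟩ := N.decD hb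
  have := H.q2 hD v hv w hw (fun l => h1 (mul_mem l z2)) fun l => h2 (mul_mem l y2)
  rw [mul_assoc, ← mul_assoc z, hD.comm z1 hw.1, mul_assoc, ← mul_assoc]
  exact mul_mem this (mul_mem z2 y2)

theorem exV : ∃ v ∈ OZ D, v ∉ 𝐂(RR S D) := by
  by_contra! k
  obtain ⟨r, h1, h2⟩ := hD.exR H
  exact h2 (hD.cV H ⟨h1.1, fun v hv => (k v hv r h1).symm⟩)

theorem exC : ∃ c, IsC S D c := by
  obtain ⟨x, N⟩ := H.nn hD
  obtain ⟨r, h1, h2⟩ := hD.exR H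
  obtain ⟨v, h3, h4⟩ := hD.exV H
  refine ⟨r * v * r⁻¹ * v⁻¹, fun s hs s1 d hd d1 => ?_⟩
  have e1 := hD.conj (N.q2R (H.q2 hD) (inv_mem h1) hs (fun l => h2 (inv_mem_iff.1 l)) s1) hd
  have e2 := hD.q2D H (inv_mem h3.1) hd (fun l => h4 (inv_mem_iff.1 l)) d1 r h1
  calc _ = r * (r⁻¹ * s * d * (r⁻¹ * s)⁻¹) * r⁻¹ := by group
    _ = r * v * r⁻¹ * (r * (v⁻¹ * d)) * r⁻¹ := by rw [e1]; group
    _ = _ := by rw [e2]; group

theorem fix (hr : r ∈ RR S D) (h0 : r ∉ D) (hv : v ∈ OZ D) (e : r * v = v * r) : v ∈ 𝐂(RR S D) :=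
  (H.nn hD).elim fun _ N => N.ff.fix r hr h0 v hv e

variable (hc : IsC S D c)
include hc

theorem uniqC (he : IsC S D e) : c = e := by
  obtain ⟨r, h1, h2⟩ := hD.exR H
  obtain ⟨v, h3, h4⟩ := hD.exV H
  exact mul_right_cancel ((hc r h1 h2 v h3.1 h4).symm.trans (he r h1 h2 v h3.1 h4))

theorem c_mem : c ∈ OZ D ∧ c ∈ 𝐂(RR S D) := by
  obtain ⟨x, N⟩ := H.nn hD
  obtain ⟨v, h3, h4⟩ := hD.exV H
  obtain ⟨b, b1, b2⟩ := SetLike.not_le_iff_exists.1 fun k => N.ne (N.mem'.eq_of H hD k)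
  have := N.vb h3 b1
  rwa [hc b (N.le' b1.1) b2 v h3.1 h4, mul_inv_cancel_right] at this

theorem c_ne : c ≠ 1 := fun e => by
  obtain ⟨r, h1, h2⟩ := hD.exR H
  obtain ⟨v, h3, h4⟩ := hD.exV H
  have := hc r h1 h2 v h3.1 h4
  rw [e, one_mul, mul_inv_eq_iff_eq_mul] at this
  exact h4 (hD.fix H h1 h2 h3 this)

theorem nsq (hd : d ∈ D) : d * d ≠ c := fun e => by
  obtain ⟨x, N⟩ := H.nn hD
  obtain ⟨r, h1, h2⟩ := hD.exR H
  obtain ⟨v, h3, h4⟩ := hD.exV H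
  exact h4 (N.f3 h1 h2 h3 hd (by rw [hc r h1 h2 v h3.1 h4, e, mul_inv_cancel_right]))

theorem out' (hh : h ∈ 𝐍(D)) (h0 : h ∉ XX S D) : h * c * h⁻¹ ∉ 𝐂(RR S D) := fun l => by
  obtain ⟨x, N⟩ := H.nn hD
  obtain ⟨r, h1, h2⟩ := hD.exR H
  obtain ⟨v, h3, h4⟩ := hD.exV H
  refine h4 (N.ff.s2 _ (inv_mem hh) (fun k => h0 (inv_mem_iff.1 k)) r h1 h2 v h3 ?_)
  rwa [hc r h1 h2 v h3.1 h4, mul_inv_cancel_right, ← cj_centralizer, mem_cj_inv]

theorem in' (hh : h ∈ XX S D) : h * c * h⁻¹ = c := by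
  obtain ⟨k, hk, m, hm, rfl⟩ := mem_XX.1 hh
  have h1 := hc.cj hm.2
  rw [cj_eq_of_mem_normalizer hm.1] at h1
  calc _ = k * (m * c * m⁻¹) * k⁻¹ := by group
    _ = _ := by rw [← hD.uniqC H hc h1, conj_eq_of_cent hk (hD.c_mem H hc).1.1]

theorem act (hh : h ∈ 𝐍(D)) (hr : r ∈ LocalEven.cj h (RR S D)) (hd : d ∈ D) :
    d⁻¹ * (r * d * r⁻¹) = 1 ∨ d⁻¹ * (r * d * r⁻¹) = h * c * h⁻¹ := by
  obtain ⟨r, r1, rfl⟩ := mem_cj'.1 hr
  obtain ⟨d, d1, rfl⟩ := mem_cj'.1 ((cj_eq_of_mem_normalizer hh).ge hd)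
  have e : (h * d * h⁻¹)⁻¹ * (h * r * h⁻¹ * (h * d * h⁻¹) * (h * r * h⁻¹)⁻¹) =
    h * (d⁻¹ * (r * d * r⁻¹)) * h⁻¹ := by group
  rw [e]
  by_cases k : r ∈ D
  · left; rw [hD.conj k d1]; group
  by_cases l : d ∈ 𝐂(RR S D)
  · left; rw [l r r1]; group
  right
  rw [hc r r1 k d d1 l, hD.comm (hD.c_mem H hc).1.1 d1]
  group

variable (hw : ID S D c w)
include hw

theorem w_mem : w ∈ OZ D ∧ w ∉ 𝐂(RR S D) := by
  obtain ⟨h, h1, h2, rfl⟩ := hw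
  exact ⟨conj_mem_of_mem_normalizer (norm_OZ h1) (hD.c_mem H hc).1, hD.out' H hc h1 h2⟩

theorem w_cz : S ⊓ cz w = D := by
  obtain ⟨h1, h2⟩ := hD.w_mem H hc hw
  have h3 : D ≤ S ⊓ cz w := le_inf hD.le fun d hd => mem_cz.2 (hD.comm hd h1.1)
  exact le_antisymm (grow H.two h3 fun r hr l n => by_contra fun k =>
    h2 (hD.fix H ⟨hr, n⟩ k h1 (mem_cz.1 l))) h3

theorem w_two (hu : ID S D c u) : u = w ∨ u = c * w := by
  by_contra! q
  obtain ⟨u1, u2⟩ := hD.w_mem H hc hu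
  obtain ⟨w1, w2⟩ := hD.w_mem H hc hw
  obtain ⟨c1, c2⟩ := hD.c_mem H hc
  obtain ⟨h, h1, h2, rfl⟩ := hw
  obtain ⟨g, g1, g2, rfl⟩ := hu
  obtain ⟨r, r1, r2⟩ := hD.exR H
  have k : ∀ a ∈ 𝐍(D), ∀ b ∈ 𝐍(D), b * c * b⁻¹ ≠ a * c * a⁻¹ →
      a⁻¹ * (b * c * b⁻¹) * a ∉ 𝐂(RR S D) := fun a ha b hb e l => by
    refine hD.out' H hc (mul_mem (inv_mem ha) hb) (fun m => e ?_) (by simpa [mul_assoc] using l)
    conv_rhs => rw [← hD.in' H hc m]
    group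
  have k1 := k h h1 g g1 q.1
  have k2 := k h h1 1 (one_mem _) fun e => w2 (by rw [← e]; simpa using c2)
  have k3 := k (r * h) (mul_mem r1.2 h1) g g1 (by
    rw [show r * h * c * (r * h)⁻¹ = r * (h * c * h⁻¹) * r⁻¹ by group, hc r r1 r2 _ w1.1 w2]
    exact q.2)
  have n := inv_mem h1
  have k4 := hc _ (inv_mem r1) (fun l => r2 (inv_mem_iff.1 l)) _ u1.1 u2
  refine k3 ?_
  convert hD.q2D H (by simpa using conj_mem_of_mem_normalizer n c1.1)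
    (by simpa using conj_mem_of_mem_normalizer n u1.1) k2 k1 using 1
  calc _ = h⁻¹ * (r⁻¹ * (g * c * g⁻¹) * r⁻¹⁻¹) * h := by group
    _ = _ := by rw [k4]; group

theorem four (ht : t ∈ S) (h1 : w * t * w⁻¹ = t⁻¹) (h2 : t * t ≠ 1) (h3 : t * t * (t * t) = 1) :
    t * t = c := by
  obtain ⟨w1, w2⟩ := hD.w_mem H hc hw
  have e1 : t * w * t⁻¹ = t * t * w := by
    calc _ = t * (w * t * w⁻¹)⁻¹ * w := by group
      _ = _ := by rw [h1, inv_inv]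
  have e2 : t * t ∈ D := (hD.w_cz H hc hw).le ⟨mul_mem ht ht, mem_cz_of_conj' (by
    calc _ = w * t * w⁻¹ * (w * t * w⁻¹) := by group
      _ = _ := by rw [h1, ← mul_inv_rev, inv_of_sq h3])⟩
  have e3 : t ∈ 𝐍(D) := inv_mem_iff.1 (mem_normalizer_of_cj_le (cj_le_iff'.2 fun d hd =>
    (hD.w_cz H hc hw).le <| mem_inf.2 ⟨mul_mem (mul_mem (inv_mem ht) (hD.le hd)) (inv_mem (inv_mem ht)),
      mem_cz.2 (by
        have := hD.comm hd (e1 ▸ mul_mem e2 w1.1)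
        calc _ = t⁻¹ * (d * (t * w * t⁻¹)) * t := by group
          _ = _ := by rw [this]; group)⟩))
  have := hc t ⟨ht, e3⟩ (fun l => h2 (by
    have := hD.conj l w1.1
    rwa [e1, mul_eq_right] at this)) w w1.1 w2
  rw [e1] at this
  exact mul_right_cancel this

theorem dih (hE : Mem S E) (he : IsC S E e) (hu : ID S E e u) (hne : D ≠ E) :
    ∃ t ∈ zpowers (w * u), t * t = c ∧ t * t = e := by
  obtain ⟨w1, -⟩ := hD.w_mem H hc hw
  obtain ⟨u1, -⟩ := hE.w_mem H he hu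
  have h1 : w * u ∈ S := mul_mem (hD.le w1.1) (hE.le u1.1)
  obtain ⟨n, hn⟩ := H.two ⟨_, h1⟩
  have i1 := inv_of_sq w1.2.2
  have i2 := inv_of_sq u1.2.2
  obtain ⟨t, t1, t2, t3⟩ := ex_four n _ (mem_zpowers (w * u)) (congrArg Subtype.val hn) fun l => by
    have h2 := inv_of_sq l
    rw [mul_inv_rev, i1, i2] at h2
    have h3 : u ∈ D := (hD.w_cz H hc hw).le ⟨hE.le u1.1, mem_cz.2 h2⟩
    exact hne (hD.eq_of H hE fun d hd => (hE.w_cz H he hu).le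
      ⟨hD.le hd.1, mem_cz.2 (hD.comm hd.1 h3)⟩)
  have h2 := zpowers_le.2 h1 t1
  exact ⟨t, t1, hD.four H hc hw h2 (inv_zp (by
      rw [mul_inv_rev, i1, i2, ← mul_assoc, w1.2.2, one_mul]) t1) t2 t3,
    hE.four H he hu h2 (inv_zp (by rw [mul_inv_rev, i1, i2, mul_assoc, mul_assoc, u1.2.2, mul_one])
      t1) t2 t3⟩

end Mem

theorem Mem.exID (hD : Mem S D) (c : G) : ∃ w, ID S D c w := by
  obtain ⟨h, h1, h2⟩ := SetLike.not_le_iff_exists.1 hD.out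
  exact ⟨_, h, h1, h2, rfl⟩

structure GC (S D : Subgroup G) (c u : G) : Prop where
  H : AH S
  isc : ∀ E, Mem S E → IsC S E c
  mem : Mem S D
  id : ID S D c u

def II (S : Subgroup G) (c w : G) : Prop := ∃ E, Mem S E ∧ ID S E c w

theorem AH.gc (H : AH S) : ∃ D c u, GC S D c u := by
  obtain ⟨D, hD, -⟩ := H.nonnormal
  obtain ⟨c, hc⟩ := hD.exC H
  obtain ⟨u, hu⟩ := hD.exID c
  refine ⟨D, c, u, H, fun E hE => ?_, hD, hu⟩
  by_cases k : D = E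
  · exact k ▸ hc
  obtain ⟨e, he⟩ := hE.exC H
  obtain ⟨w, hw⟩ := hE.exID e
  obtain ⟨t, -, h1, h2⟩ := hD.dih H hc hu hE he hw k
  rwa [← h1, h2]

namespace GC

variable (C : GC S D c u)
include C

theorem iu : II S c u := ⟨D, C.mem, C.id⟩

theorem cN (hg : g ∈ 𝐍(S)) : g * c * g⁻¹ = c :=
  (C.mem.cj hg).uniqC C.H ((C.isc D C.mem).cj hg) (C.isc _ (C.mem.cj hg))

theorem cj (hg : g ∈ 𝐍(S)) (hw : II S c w) : II S c (g * w * g⁻¹) := by
  obtain ⟨E, hE, hw⟩ := hw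
  exact ⟨_, hE.cj hg, C.cN hg ▸ hw.cj hg⟩

theorem iS (hw : II S c w) : w ∈ S ∧ w * w = 1 := by
  obtain ⟨E, hE, hw⟩ := hw
  have := (hE.w_mem C.H (C.isc E hE) hw).1
  exact ⟨hE.le this.1, this.2.2⟩

theorem prod (hv : II S c v) (hw : II S c w) (h : v * w ∈ D) : v * w = 1 ∨ v * w = c := by
  have h1 := C.iS hv
  obtain ⟨E, hE, hv⟩ := hv
  obtain ⟨F, hF, hw⟩ := hw
  by_cases k : E = F
  · subst k
    refine (hE.w_two C.H (C.isc E hE) hv hw).imp (fun e => by rw [e, h1.2]) fun e => ?_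
    rw [e, ← mul_assoc]
    nth_rw 2 [← inv_of_sq h1.2]
    exact C.cN (le_normalizer h1.1)
  obtain ⟨t, t1, t2, -⟩ := hE.dih C.H (C.isc E hE) hv hF (C.isc F hF) hw k
  exact absurd t2 (C.mem.nsq C.H (C.isc D C.mem) (zpowers_le.2 h t1))

theorem tS (h : II S c (u * s)) : s ∈ S ∧ u * s * u⁻¹ = s⁻¹ :=
  ⟨(mul_mem_cancel_left (C.iS C.iu).1).1 (C.iS h).1, by
    rw [inv_of_sq (C.iS C.iu).2, eq_inv_iff_mul_eq_one, mul_assoc, (C.iS h).2]⟩

theorem zp (h : II S c (u * s)) (ht : t ∈ zpowers s) : II S c (u * t) := by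
  obtain ⟨n, rfl⟩ := ht
  obtain ⟨h1, h2⟩ := C.tS h
  have k : ∀ m : ℤ, u * s ^ m = (s ^ m)⁻¹ * u := fun m => by
    rw [← inv_zp h2 ⟨m, rfl⟩]; group
  obtain ⟨m, rfl | rfl⟩ := Int.even_or_odd' n
  · convert C.cj (le_normalizer (inv_mem (zpow_mem h1 m))) C.iu using 1
    rw [← k]; group
  · convert C.cj (le_normalizer (inv_mem (zpow_mem h1 m))) h using 1
    rw [← mul_assoc, ← k]; group

theorem sq (hs : II S c (u * s)) (ht : II S c (u * t)) (h : s * s = t * t) :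
    s⁻¹ * t = 1 ∨ s⁻¹ * t = c := by
  obtain ⟨h1, h2⟩ := C.tS hs
  obtain ⟨h3, h4⟩ := C.tS ht
  have e : u * s * (u * t) = s⁻¹ * t := by
    rw [← h2, inv_of_sq (C.iS C.iu).2]; group
  rw [← e]
  refine C.prod hs ht (e ▸ (C.mem.w_cz C.H (C.isc D C.mem) C.id).le (mem_inf.2
    ⟨mul_mem (inv_mem h1) h3, mem_cz_of_conj' ?_⟩))
  calc _ = (u * s * u⁻¹)⁻¹ * (u * t * u⁻¹) := by group
    _ = s⁻¹ * (s * s) * t⁻¹ := by rw [h2, h4]; group
    _ = _ := by rw [h]; group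

theorem cyc : ∃ ρ, II S c (u * ρ) ∧ c ∈ zpowers ρ ∧ ∀ s, II S c (u * s) → s ∈ zpowers ρ := by
  have h1 : II S c (u * 1) := by simpa using C.iu
  obtain ⟨ρ, h2, h3⟩ := Set.exists_max_image {s | II S c (u * s)} orderOf (Set.toFinite _) ⟨1, h1⟩
  have hc := C.isc D C.mem
  have h4 : II S c (u * c) := by
    obtain ⟨r, r1, r2⟩ := C.mem.exR C.H
    obtain ⟨u1, u2⟩ := C.mem.w_mem C.H hc C.id
    have := C.cj (le_normalizer r1.1) C.iu
    rwa [hc r r1 r2 u u1.1 u2, C.mem.comm (C.mem.c_mem C.H hc).1.1 u1.1] at this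
  have h5 : c ∈ zpowers ρ := by
    obtain ⟨t, t1, t2⟩ := exists_mem_orderOf_eq_of_ne_bot (C.H.two.to_le (zpowers_le.2 (C.tS h2).1))
      fun e => C.mem.c_ne C.H hc (by
        have := h3 c h4
        rw [zpowers_eq_bot.1 e, orderOf_one] at this
        exact orderOf_eq_one_iff.1 (le_antisymm this (orderOf_pos c)))
    have := (C.sq h1 (C.zp h2 t1) (by rw [← pow_two t, ← t2, pow_orderOf_eq_one, one_mul])).resolve_left
      (by simpa using ne_one_of_orderOf_eq t2)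
    rwa [← this, inv_one, one_mul]
  have key : ∀ n : ℕ, ∀ s, II S c (u * s) → s ^ 2 ^ n = 1 → s ∈ zpowers ρ := by
    intro n
    induction n with
    | zero => intro s _ h; simp_all [one_mem]
    | succ n ih =>
      intro s hs h
      obtain ⟨j, hj⟩ := mem_powers_iff_mem_zpowers.2 (ih _ (C.zp hs (pow_mem (mem_zpowers s) 2))
        (by rw [← pow_mul, ← pow_succ', h]))
      rcases Nat.even_or_odd j with ⟨i, rfl⟩ | ho
      · have h6 := pow_mem (mem_zpowers ρ) i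
        rw [← mul_mem_cancel_left (inv_mem h6)]
        rcases C.sq (C.zp h2 h6) hs (by rw [← pow_add, ← pow_two]; exact hj) with e | e
        · exact e ▸ one_mem _
        · exact e ▸ h5
      by_contra s1
      obtain ⟨a, ha⟩ := orderOf_of_mem_isPGroup C.H.two (C.tS h2).1
      obtain ⟨b, hb⟩ := orderOf_of_mem_isPGroup C.H.two (C.tS hs).1
      have h6 := Nat.Coprime.orderOf_pow (y := ρ) (m := j)
        (ha ▸ Nat.Coprime.pow_left a (Nat.coprime_two_left.2 ho))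
      have h7 := h3 s hs
      rcases b with _ | b
      · exact s1 (orderOf_eq_one_iff.1 hb ▸ one_mem _)
      have h8 : orderOf (s ^ 2) ≤ 2 ^ b := orderOf_le_of_pow_eq_one (by positivity)
        (by rw [← pow_mul, ← pow_succ', ← hb, pow_orderOf_eq_one])
      have : 0 < 2 ^ b := by positivity
      simp only at hj
      rw [hj] at h6
      omega
  exact ⟨ρ, h2, h5, fun s hs => (C.H.two ⟨s, (C.tS hs).1⟩).elim fun n hn =>
    key n s hs (congrArg Subtype.val hn)⟩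

theorem dihedral : ∃ m : ℕ, 2 ≤ m ∧ Nonempty (S ≃* DihedralGroup m) := by
  obtain ⟨ρ, h1, h2, h3⟩ := C.cyc
  have H := C.H
  obtain ⟨u1, u2⟩ := C.iS C.iu
  obtain ⟨r1, r2⟩ := C.tS h1
  have k0 : ∀ w, II S c w → u * w ∈ zpowers ρ := fun w hw =>
    h3 _ (by rwa [← mul_assoc, u2, one_mul])
  have k1 : ∀ v w, II S c v → II S c w → v * w ∈ zpowers ρ := fun v w hv hw => by
    convert mul_mem (inv_mem (k0 v hv)) (k0 w hw) using 1
    rw [mul_inv_rev, inv_of_sq (C.iS hv).2]; group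
  set P := closure {ρ, u}
  have p1 : zpowers ρ ≤ P := zpowers_le.2 (subset_closure (by simp))
  have p2 : u ∈ P := subset_closure (by simp)
  have p3 : ∀ w, II S c w → w ∈ P := fun w hw => (mul_mem_cancel_left p2).1 (p1 (k0 w hw))
  have p4 : ∀ K : Subgroup G, ρ ∈ K → u ∈ K → P ≤ K := fun K a b => (closure_le K).2 (by
    rintro _ (rfl | rfl); exacts [a, b])
  have k2 : ∀ g ∈ 𝐍(S), g * ρ * g⁻¹ ∈ zpowers ρ := fun g hg => by
    convert k1 _ _ (C.cj hg C.iu) (C.cj hg h1) using 1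
    calc _ = g * (u * u) * ρ * g⁻¹ := by rw [u2, mul_one]
      _ = _ := by group
  have k3 : 𝐍(S) ≤ 𝐍(𝐂(P)) := fun g hg => normalizer_le_normalizer_centralizer _
    (mem_normalizer_of_cj_le (cj_le_iff.2 (p4 _ (mem_cj_inv.2 (p1 (k2 g hg)))
      (mem_cj_inv.2 (p3 _ (C.cj hg C.iu))))))
  have k4 : ∀ o ∈ 𝐍(S), Odd (orderOf o) → o ∈ 𝐂(P) := fun o ho h => by
    have h4 := Comp2.Hsub.cent_of_cyclic (H.two.to_le (zpowers_le.2 r1))
      (mem_normalizer_of_cj_le (by rw [cj_zpowers]; exact zpowers_le.2 (k2 o ho)))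
      (Nat.coprime_two_right.2 h) (by simp)
    have h5 := k1 _ _ (C.cj ho C.iu) C.iu
    nth_rw 2 [← inv_of_sq u2] at h5
    obtain ⟨n, hn⟩ := H.two ⟨_, zpowers_le.2 r1 h5⟩
    exact fun x hx => mem_cz.1 (p4 (cz o) (mem_cz.2 (h4 ρ (mem_zpowers ρ)))
      (mem_cz_of_conj' (comm_one h (congrArg Subtype.val hn) (h4 _ h5))) hx)
  have k5 : ∀ E, Mem S E → ∀ h ∈ 𝐍(E), h * c * h⁻¹ ∈ P := fun E hE h hh => by
    by_cases l : h ∈ XX S E
    · rw [hE.in' H (C.isc E hE) l]; exact p1 h2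
    · exact p3 _ ⟨E, hE, h, hh, l, rfl⟩
  have k6 : ∀ E, Mem S E → ∀ h ∈ 𝐍(E), ∀ r ∈ LocalEven.cj h (S ⊓ 𝐍(E)), ∀ d ∈ E,
      d⁻¹ * (r * d * r⁻¹) ∈ P := fun E hE h hh r hr d hd => by
    rcases hE.act H (C.isc E hE) hh hr hd with e | e <;> rw [e]
    exacts [one_mem _, k5 E hE h hh]
  have f1 : S ≤ P ⊔ (S ⊓ 𝐂(P)) := H.foc' (fun o ho h s hs => mem_sup_right (mem_inf.2
    ⟨mul_mem (inv_mem hs) (conj_mem_of_mem_normalizer ho hs), by
      simpa [mul_assoc] using mul_mem (conj_mem_of_mem_normalizer (k3 (le_normalizer (inv_mem hs)))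
        (k4 o ho h)) (inv_mem (k4 o ho h))⟩)) fun E hE h hh r hr d hd =>
    mem_sup_left (k6 E hE h hh r hr d hd)
  have f2 : S ⊓ 𝐂(P) ≤ D := fun w hw => (C.mem.w_cz H (C.isc D C.mem) C.id).le
    ⟨hw.1, mem_cz.2 (hw.2 u p2).symm⟩
  have f3 : S ⊓ 𝐂(P) ≤ 𝐂(S) := le_centralizer_iff.1 (f1.trans (sup_le
    (le_centralizer_iff.1 inf_le_right) (f2.trans (C.mem.ab.trans (cent_anti f2)))))
  set Y := S ⊓ 𝐂(S) ⊓ ⨅ (E) (_ : Mem S E) (h) (_ : h ∈ 𝐍(E)), 𝐂(LocalEven.cj h (RR S E))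
  have y1 : ∀ y, y ∈ Y ↔ y ∈ S ⊓ 𝐂(S) ∧
      ∀ E, Mem S E → ∀ h ∈ 𝐍(E), y ∈ 𝐂(LocalEven.cj h (RR S E)) := fun y => by
    simp only [Y, mem_inf, mem_iInf]
  have y0 : 𝐍(S) ≤ 𝐍((S ⊓ 𝐂(S) : Subgroup G)) :=
    le_normalizer_inf le_rfl (normalizer_le_normalizer_centralizer S)
  have y2 : Y = ⊥ := by_contra fun e => OZ_ne_bot (H.two.to_le (inf_le_left.trans inf_le_left)) e
    (H.clo (OZ_le.trans (inf_le_left.trans inf_le_left)) (fun w hw => hw.2.2)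
      (fun g hg => norm_OZ (mem_normalizer_of_cj_le (cj_le_iff'.2 fun y hy => (y1 _).2
        ⟨conj_mem_of_mem_normalizer (y0 hg) hy.1, fun E hE h hh => by
          have := ((y1 y).1 hy).2 _ (hE.cj (inv_mem hg)) _ (cj_normalizer g⁻¹ E ▸ conj_mem_cj hh)
          rw [← cj_RR (inv_mem hg), cj_cj, inv_inv, mul_inv_cancel_right, cj_mul,
            ← cj_centralizer] at this
          exact mem_cj_inv.1 this⟩)))
      fun E hE h hh r hr d _ hd => by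
        rwa [((y1 d).1 hd.1).2 E hE h hh r hr, mul_inv_cancel_right])
  have k7 : ∀ o ∈ 𝐍(S), Odd (orderOf o) → o ∈ 𝐂(S) := fun o ho h => by
    refine cent_anti f1 ((centralizer_sup' _ _).ge (mem_inf.2 ⟨k4 o ho h, fun w hw => ?_⟩))
    have w1 : w ∈ S ⊓ 𝐂(S) := ⟨hw.1, f3 hw⟩
    have : o * w * o⁻¹ * w⁻¹ ∈ Y := (y1 _).2 ⟨mul_mem (conj_mem_of_mem_normalizer (y0 ho) w1)
      (inv_mem w1), fun E hE g hg => by
        obtain ⟨v, hv⟩ := hE.exID c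
        have hc := C.isc E hE
        have o1 : o ∈ 𝐍(E) := by
          rw [← hE.w_cz H hc hv]
          refine inf_normalizer_le_normalizer_inf ⟨ho, cj_eq_self_iff.1 ?_⟩
          rw [cz, cj_centralizer_singleton, conj_eq_of_cent (k4 o ho h) (p3 v ⟨E, hE, hv⟩)]
        have o2 := mul_mem (mul_mem (inv_mem hg) o1) hg
        have o3 : g⁻¹ * o * g ∈ XX S E := by_contra fun l => hE.out' H hc o2 l (by
          convert (hE.c_mem H hc).2 using 1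
          calc _ = g⁻¹ * (o * (g * c * g⁻¹) * o⁻¹) * g := by group
            _ = _ := by rw [conj_eq_of_cent (k4 o ho h) (k5 E hE g hg)]; group)
        obtain ⟨k, hk, m, hm, e⟩ := mem_XX.1 o3
        have w2 : g⁻¹ * w * g ∈ E := by
          simpa using conj_mem_of_mem_normalizer (inv_mem hg) (hE.sc ⟨w1.1, cent_anti hE.le w1.2⟩)
        have w3 := conj_mem_of_mem_normalizer hm.1 w2
        have w4 := mem_normalizer_iff.1 (normalizer_le_normalizer_centralizer (RR S E)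
          (inf_normalizer_le_normalizer_inf ⟨hm.2, le_normalizer hm.1⟩)) (g⁻¹ * w * g)
        rw [← cj_centralizer, mem_cj]
        have e2 : g⁻¹ * (o * w * o⁻¹ * w⁻¹) * g = m * (g⁻¹ * w * g) * m⁻¹ * (g⁻¹ * w * g)⁻¹ := by
          rw [← conj_eq_of_cent hk w3]
          calc _ = g⁻¹ * o * g * (g⁻¹ * w * g) * (g⁻¹ * o * g)⁻¹ * (g⁻¹ * w * g)⁻¹ := by group
            _ = _ := by rw [← e]; group
        rw [e2]
        by_cases l : g⁻¹ * w * g ∈ 𝐂(RR S E)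
        · exact mul_mem (w4.1 l) (inv_mem l)
        · exact hE.q2D H w3 (inv_mem w2) (fun k => l (w4.2 k)) fun k => l (inv_mem_iff.1 k)⟩
    rw [y2, mem_bot, mul_inv_eq_one, mul_inv_eq_iff_eq_mul] at this
    exact this.symm
  have f4 : S = P := le_antisymm (H.foc' (fun o ho h s hs => by
    rw [conj_eq_of_cent (k7 o ho h) hs, inv_mul_cancel]; exact one_mem _) k6) (p4 S r1 u1)
  refine ⟨orderOf ρ, ?_, f4 ▸ Classical.DihRecog.closure_equiv_dihedral rfl r2 u2 fun l => H.nab ?_⟩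
  · by_contra! l
    rw [orderOf_eq_one_iff.1 (le_antisymm (Nat.lt_succ_iff.1 l) (orderOf_pos ρ)), zpowers_one_eq_bot,
      mem_bot] at h2
    exact C.mem.c_ne H (C.isc D C.mem) h2
  · have := f4.le.trans (p4 _ (mem_zpowers ρ) l)
    exact this.trans ((le_centralizer (zpowers ρ)).trans (cent_anti this))

end GC

end Cfsg.Agent.Fil
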