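import Mathlib
import Cfsg.Agent.Fil.X
import Cfsg.Agent.Fil.S
import Cfsg.Agent.RankOne.SzLie
import Cfsg.Agent.Ben.Cons2

set_option autoImplicit false
set_option linter.unusedSectionVars false

/-! Binary actions of simple groups with one class of involutions. -/

namespace Cfsg.Agent.Fil.L2

open Matrix Cfsg.Agent.Fil.Bn

namespace Mod

variable {F : Type*} [Field F] {G : Type*} [Group G] (Z : Mod G F)

theorem tr_of_sq [CharP F 2] {g : G} (h : g * g = 1) : Z.tr g = 0 := by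
  have e : g⁻¹ = g := RankOne.inv_eq_of_mul_self h
  have := congrFun (congrFun (Z.ρ_inv g) 0) 0
  rw [e] at this
  simp at this
  unfold tr
  grind

theorem S_sq [CharP F 2] (b : F) : Z.S b * Z.S b = 1 := by
  rw [S_mul, ← Z.S_zero]; congr 1; grind

theorem inv_conj [CharP F 2] {s : G} (h1 : s ≠ 1) (h2 : s * s = 1) : IsConj (Z.S 1) s := by
  have := Z.fin
  obtain ⟨k, b, rfl⟩ := Z.uni (g := s) (by rw [Z.tr_of_sq h2]; grind)
  have hb : b ≠ 0 := by rintro rfl; simp [S_zero] at h1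
  obtain ⟨c, hc⟩ := FiniteField.isSquare_of_char_two (ringChar.eq F 2) b
  have c0 : c ≠ 0 := by rintro rfl; simp [hb] at hc
  refine isConj_iff.mpr ⟨k * Z.M c, ?_⟩
  rw [mul_assoc k, Z.M_S c0, mul_one, sq, ← hc]; group

def U : Subgroup G where
  carrier := Set.range Z.S
  mul_mem' := by rintro _ _ ⟨a, rfl⟩ ⟨b, rfl⟩; exact ⟨_, (Z.S_mul a b).symm⟩
  one_mem' := ⟨0, Z.S_zero⟩
  inv_mem' := by rintro _ ⟨a, rfl⟩; exact ⟨_, (Z.S_inv a).symm⟩

theorem M_pow {l : F} (hl : l ≠ 0) (n : ℕ) : Z.ρ (Z.M l ^ n) 0 0 = l ^ n := by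
  induction n with
  | zero => simp
  | succ n ih => rw [pow_succ, m, ih, Z.ρ_M hl, pow_succ]; simp

theorem sylow_U [CharP F 2] (h4 : ∃ a : F, a ≠ 0 ∧ a ≠ 1) : ∃ P : Sylow 2 G, (P : Subgroup G) = Z.U := by
  refine ⟨⟨Z.U, ?_, fun {R} hR hle => ?_⟩, rfl⟩
  · rintro ⟨_, b, rfl⟩
    exact ⟨1, Subtype.ext (by simpa [sq] using Z.S_sq b)⟩
  have key : ∀ l, l ≠ 0 → Z.M l ∈ R → l = 1 := by
    intro l hl hM
    obtain ⟨k, hk⟩ := hR ⟨_, hM⟩
    have h1 := Z.M_pow hl (2 ^ k)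
    rw [show Z.M l ^ 2 ^ k = 1 from congrArg Subtype.val hk] at h1
    have : Fact (Nat.Prime 2) := ⟨Nat.prime_two⟩
    have h2 : (l - 1) ^ 2 ^ k = 0 := by rw [sub_pow_char_pow, ← h1]; simp
    exact sub_eq_zero.mp (pow_eq_zero_iff (by positivity) |>.mp h2)
  refine le_antisymm (fun g hg => ?_) hle
  by_cases hc : Z.ρ g 1 0 = 0
  · obtain ⟨l0, e⟩ := Z.borel hc
    have h1 := key _ l0 ((R.mul_mem_cancel_left (hle ⟨_, rfl⟩)).mp (e ▸ hg))
    rw [h1, M_one, mul_one] at e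
    exact ⟨_, e.symm⟩
  · obtain ⟨a, a0, a1⟩ := h4
    exact absurd (key a a0 (Z.top_of (fun b => hle ⟨b, rfl⟩) hg hc ▸ Subgroup.mem_top _)) a1

theorem even_two [CharP F 2] {H : Subgroup G} (hb : Bin G (G ⧸ H)) (hH : H ≠ ⊤) (he : Even (Nat.card H)) :
    ∃ k, H = (Z.conj k).U := by
  have := Z.finite
  obtain ⟨s, hs, s1, s2⟩ := RankOne.exists_involution_mem he
  obtain ⟨k, hk⟩ := isConj_iff.mp (Z.inv_conj s1 s2)
  rw [← conj_S] at hk
  refine ⟨k, ?_⟩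
  generalize Z.conj k = Y at hk
  subst hk
  have h0 : ∀ b, Y.S b ∈ H := fun b => hb.mem_of_comm
    (fun s t s1 s2 t1 t2 => (Y.inv_conj s1 s2).symm.trans (Y.inv_conj t1 t2)) hs s1 s2 (Y.S_sq b)
    (by rw [S_mul, S_mul, add_comm])
  have hB : ∀ h ∈ H, Y.ρ h 1 0 = 0 := fun h hh => by
    by_contra hc
    exact hH (Y.top_of h0 hh hc)
  refine le_antisymm (fun h hh => ?_) (by rintro _ ⟨b, rfl⟩; exact h0 b)
  have h1 : Y.ρ h 0 0 = 1 := by
    have h2 : Y.ρ h 0 0 ^ 2 = 1 := by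
      by_contra h3
      exact h3 (Y.no_torus hb hB one_ne_zero hs hh (by grind))
    have h4 : (Y.ρ h 0 0 + 1) ^ 2 = 0 := by grind
    have h5 : Y.ρ h 0 0 + 1 = 0 := by simpa using h4
    grind
  obtain ⟨-, e⟩ := Y.borel (hB h hh)
  rw [h1, M_one, mul_one] at e
  exact ⟨_, e.symm⟩

theorem conj_B {g : G} (h : Z.ρ g 1 0 = 0) (b : F) : ∃ c, g * Z.S b * g⁻¹ = Z.S c := by
  obtain ⟨l0, e⟩ := Z.borel h
  rw [e, mul_assoc (Z.S _), Z.M_S l0, ← mul_assoc, S_mul]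
  exact ⟨_, by rw [_root_.mul_inv_rev, ← mul_assoc, mul_inv_cancel_right, S_inv, S_mul]⟩

theorem bin_U [CharP F 2] : Bin G (G ⧸ Z.U) := by
  apply bin_of_elem
  · rintro _ ⟨b, rfl⟩; exact Z.S_sq b
  · rintro g _ ⟨a, rfl⟩ _ ⟨b, rfl⟩ a1 b1 hc
    have a0 : a ≠ 0 := by rintro rfl; exact a1 Z.S_zero
    have b0 : b ≠ 0 := by rintro rfl; exact b1 Z.S_zero
    have h1 := congrFun (congrFun (congrArg Z.ρ hc) 0) 0
    rw [m, m (g := g * Z.S b * g⁻¹)] at h1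
    simp only [ρ_S] at h1
    simp [-map_mul, a0] at h1
    have h2 : Z.ρ g 1 0 = 0 := by
      simp only [m, ρ_inv, ρ_S] at h1
      simp at h1
      have : Z.ρ g 1 0 ^ 2 * b = 0 := by linear_combination -h1
      simpa [b0] using this
    have h3 : Z.ρ g⁻¹ 1 0 = 0 := by simp [ρ_inv, h2]
    intro x
    constructor
    · rintro ⟨c, rfl⟩
      obtain ⟨d, hd⟩ := Z.conj_B h3 c
      exact ⟨d, by simpa using hd.symm⟩
    · rintro ⟨c, hc⟩
      obtain ⟨d, hd⟩ := Z.conj_B h2 c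
      exact ⟨d, by rw [← hd, hc]; group⟩

theorem exists_conj_U [CharP F 2] (h4 : ∃ a : F, a ≠ 0 ∧ a ≠ 1) (P : Sylow 2 G) :
    ∃ k, (P : Subgroup G) = (Z.conj k).U := by
  have := Z.finite
  have : Fact (Nat.Prime 2) := ⟨Nat.prime_two⟩
  obtain ⟨R, hR⟩ := Z.sylow_U h4
  obtain ⟨g, rfl⟩ := MulAction.exists_smul_eq G R P
  refine ⟨g, ?_⟩
  ext x
  rw [Sylow.coe_subgroup_smul, Subgroup.mem_pointwise_smul_iff_inv_smul_mem, hR]
  constructor
  · rintro ⟨a, e⟩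
    exact ⟨a, by rw [conj_S, e]; simp [mul_assoc]⟩
  · rintro ⟨a, rfl⟩
    exact ⟨a, by rw [conj_S]; simp [mul_assoc]⟩

include Z in
theorem main_even [CharP F 2] (h4 : ∃ a : F, a ≠ 0 ∧ a ≠ 1) (H : Subgroup G) (hH : H ≠ ⊤)
    (he : Even (Nat.card H)) : Bin G (G ⧸ H) ↔ ∃ P : Sylow 2 G, H = P := by
  constructor
  · intro hb
    obtain ⟨k, rfl⟩ := Z.even_two hb hH he
    obtain ⟨P, hP⟩ := (Z.conj k).sylow_U h4
    exact ⟨P, hP.symm⟩
  · rintro ⟨P, rfl⟩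
    obtain ⟨k, hk⟩ := Z.exists_conj_U h4 P
    rw [hk]
    exact bin_U _

end Mod

/-- the model attached to an isomorphism with `SL₂(F)`. -/
def ofEquiv {F : Type*} [Field F] [Finite F] {G : Type*} [Group G] (e : G ≃* SpecialLinearGroup (Fin 2) F) :
    Mod G F where
  ρ := { toFun := fun g => (e g).1
         map_one' := by simp
         map_mul' := fun g h => by simp }
  fin := inferInstance
  inj := fun _ _ h => e.injective (Subtype.ext h)
  det := fun g => (e g).2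
  surj := fun A h => ⟨e.symm ⟨A, h⟩, congrArg Subtype.val (e.apply_symm_apply ⟨A, h⟩)⟩

theorem charP_two {F : Type*} [Field F] [Fintype F] {a : ℕ} (hF : Fintype.card F = 2 ^ a) : CharP F 2 := by
  obtain ⟨p, hp⟩ := CharP.exists F
  obtain ⟨n, hpp, hn⟩ := FiniteField.card F p
  have : p = 2 := by
    have h1 : p ∣ 2 ^ a := by rw [← hF, hn]; exact dvd_pow_self p n.ne_zero
    exact (Nat.prime_dvd_prime_iff_eq hpp Nat.prime_two).mp (hpp.dvd_of_dvd_pow h1)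
  subst this
  exact hp

theorem exists_ne01 {F : Type*} [Field F] [Fintype F] (h : 4 ≤ Fintype.card F) : ∃ a : F, a ≠ 0 ∧ a ≠ 1 := by
  classical
  by_contra hc
  push Not at hc
  have h2 : (Finset.univ : Finset F) ⊆ {0, 1} := by
    intro y _
    by_cases h0 : y = 0 <;> simp [h0, hc y]
  have h3 := Finset.card_le_card h2
  have h4 : ({0, 1} : Finset F).card ≤ 2 := Finset.card_le_two
  rw [Finset.card_univ] at h3
  omega

theorem psl_equiv {F : Type*} [Field F] [Finite F] [CharP F 2] :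
    Nonempty (ProjectiveSpecialLinearGroup (Fin 2) F ≃* SpecialLinearGroup (Fin 2) F) := by
  have : Subgroup.center (SpecialLinearGroup (Fin 2) F) = ⊥ := by
    rw [eq_bot_iff]
    intro g hg
    let Z := ofEquiv (MulEquiv.refl (SpecialLinearGroup (Fin 2) F))
    obtain ⟨h1, h2, h3⟩ := Z.center_iff.mp hg
    have hd := Z.d g
    have h4 : (Z.ρ g 0 0 + 1) ^ 2 = 0 := by grind
    have h5 : Z.ρ g 0 0 + 1 = 0 := by simpa using h4
    have h6 : Z.ρ g 0 0 = 1 := by grind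
    rw [Subgroup.mem_bot]
    apply Z.ext' <;> simp [h1, h2, ← h3, h6]
  exact ⟨(QuotientGroup.quotientMulEquivOfEq this).trans QuotientGroup.quotientBot⟩

theorem four_le {a : ℕ} (ha : 2 ≤ a) : 4 ≤ 2 ^ a := Nat.pow_le_pow_right (by norm_num : 0 < 2) ha

theorem main {G : Type*} [Group G] [Finite G] [IsSimpleGroup G]
    (hone : ∀ s t : G, orderOf s = 2 → orderOf t = 2 → IsConj s t)
    (H : Subgroup G) (hH : H ≠ ⊤) (heven : Even (Nat.card H)) : Bin G (G ⧸ H) ↔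
      (((∃ (F : Type) (_ : Field F) (_ : Fintype F) (a : ℕ), 2 ≤ a ∧ Fintype.card F = 2 ^ a ∧
          Nonempty (G ≃* Matrix.SpecialLinearGroup (Fin 2) F)) ∧ ∃ P : Sylow 2 G, H = P) ∨
        (Cfsg.Lie.IsoSuzuki G ∧
          ∃ P : Sylow 2 G, H = (Subgroup.center (P : Subgroup G)).map (P : Subgroup G).subtype) ∨
        ((∃ (F : Type) (_ : Field F) (_ : Fintype F) (a : ℕ), 2 ≤ a ∧ Fintype.card F = (2 ^ a) ^ 2 ∧
          Nonempty (G ≃* Cfsg.PSU 3 F (2 ^ a))) ∧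
          ∃ P : Sylow 2 G, H = (Subgroup.center (P : Subgroup G)).map (P : Subgroup G).subtype)) := by
  have : Fact (Nat.Prime 2) := ⟨Nat.prime_two⟩
  constructor
  · intro hb
    obtain ⟨s, hs, s1, s2⟩ := RankOne.exists_involution_mem heven
    obtain ⟨M, hM⟩ := exists_se hH hs s1 s2 fun a ha a1 a2 b b2 hc => hb.mem_of_comm
      (fun s t s1 s2 t1 t2 => hone s t (orderOf_eq_prime (by rw [sq, s2]) s1) (orderOf_eq_prime (by rw [sq, t2]) t1))
      ha a1 a2 b2 hc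
    rcases Ben.simple_known hM with ⟨F, _, _, n, hn, hF, ⟨e⟩⟩ | hS | ⟨F, _, _, n, hn, hF, ⟨e⟩⟩
    · have := charP_two hF
      obtain ⟨f⟩ := psl_equiv (F := F)
      exact Or.inl ⟨⟨F, _, _, n, hn, hF, ⟨e.trans f⟩⟩,
        ((ofEquiv (e.trans f)).main_even (exists_ne01 (hF ▸ four_le hn)) H hH heven).mp hb⟩
    · refine Or.inr (Or.inl ⟨hS, ?_⟩)
      obtain ⟨F, _, _, m, hm, hF, ⟨e⟩⟩ := hS
      obtain ⟨_, ⟨Z⟩⟩ := RankOne.Sz.exists_model_of_equiv_lie hF hm e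
      exact sz_even Z hb hH heven
    · exact Or.inr (Or.inr ⟨⟨F, _, _, n, hn, hF, ⟨e⟩⟩, (psu_main hn hF e H hH heven).mp hb⟩)
  · rintro (⟨⟨F, _, _, n, hn, hF, ⟨e⟩⟩, h⟩ | ⟨⟨F, _, _, m, hm, hF, ⟨e⟩⟩, h⟩ | ⟨⟨F, _, _, n, hn, hF, ⟨e⟩⟩, h⟩)
    · have := charP_two hF
      exact ((ofEquiv e).main_even (exists_ne01 (hF ▸ four_le hn)) H hH heven).mpr h
    · obtain ⟨_, ⟨Z⟩⟩ := RankOne.Sz.exists_model_of_equiv_lie hF hm e
      exact (sz_main Z H hH).mpr (Or.inr h)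
    · exact (psu_main hn hF e H hH heven).mpr h

end Cfsg.Agent.Fil.L2
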