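import Mathlib
import Cfsg.Agent.Fil.Y

set_option autoImplicit false
set_option linter.unusedSectionVars false

/-! Binary actions of `PSL₂(q)`. -/

namespace Cfsg.Agent.Fil.L2

open Matrix Cfsg.Agent.Fil.Bn

namespace Mod

variable {F : Type*} [Field F] {G : Type*} [Group G] (Z : Mod G F)

include Z in
theorem no_triple {H : Subgroup G} (hb : Bin G (G ⧸ H)) {u : G} (hu : u ∈ H) (u1 : u ∉ Subgroup.center G)
    (hH : ∀ h ∈ H, h * u = u * h) {g1 g2 z : G} (hz : z ∈ Subgroup.center G) (zH : z ∈ H)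
    (e : u * (g1 * u * g1⁻¹) = z * (g2 * u * g2⁻¹)) : u * (g1 * u * g1⁻¹) = (g1 * u * g1⁻¹) * u := by
  have h3 : g2⁻¹ * (u * (g1 * u * g1⁻¹)) * g2 ∈ H := by
    rw [e, ← mul_assoc g2⁻¹, Subgroup.mem_center_iff.mp hz]
    simpa [mul_assoc] using H.mul_mem zH hu
  obtain ⟨g, a1, a2, a3⟩ := hb.tri (x1 := (g1 : G ⧸ H)) (x2 := ((1 : G) : G ⧸ H)) (x3 := (g2 : G ⧸ H))
    (a := g1 * u * g1⁻¹) (b := u⁻¹) ((smul_mk_iff _ _ _).mpr (by simpa [mul_assoc] using hu))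
    ((smul_mk_iff _ _ _).mpr (by simpa using hu))
    (by rw [eq_inv_smul_iff, ← mul_smul, smul_mk_iff]; exact h3)
  have gH : g ∈ H := by simpa using (smul_mk_iff _ _ _).mp a2
  by_cases hg : g ∈ Subgroup.center G
  · have a4 : g • (g2 : G ⧸ H) = g2 := by
      rw [smul_mk_iff, mul_assoc, ← Subgroup.mem_center_iff.mp hg, inv_mul_cancel_left]; exact gH
    rw [a4] at a3
    have a5 := (smul_mk_iff _ _ _).mp a3.symm
    have a6 := Z.comm2 u1 (hH _ h3) (hH _ a5)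
    generalize g1 * u * g1⁻¹ = y at a6
    calc u * y = g2 * (g2⁻¹ * (u * y) * g2 * (g2⁻¹ * y * g2)) * g2⁻¹ * y⁻¹ := by group
      _ = y * u := by rw [a6]; group
  · refine Z.comm2 hg (hH g gH).symm ?_
    have := hH _ ((smul_mk_iff _ _ _).mp a1)
    calc g1 * u * g1⁻¹ * g = g1 * (u * (g1⁻¹ * g * g1)) * g1⁻¹ := by group
      _ = _ := by rw [← this]; group

theorem tr_C (τ : F) : Z.tr (Z.C τ) = τ := by simp [tr, ρ_C]

noncomputable def z : G := Z.el (-1) 0 0 (-1)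

theorem ρ_z : Z.ρ Z.z = !![-1, 0; 0, -1] := Z.ρ_el (by ring)

theorem z_center : Z.z ∈ Subgroup.center G := Z.center_iff.mpr (by simp [ρ_z])

theorem tr_z (g : G) : Z.tr (Z.z * g) = -Z.tr g := by simp [tr, m, ρ_z, -map_mul]; ring

theorem z_sq : Z.z * Z.z = 1 := by apply Z.ext' <;> simp [m, ρ_z, -map_mul]

theorem C_comm {τ : F} {w : G} (h : w * Z.C τ = Z.C τ * w) :
    Z.ρ w 0 1 = -Z.ρ w 1 0 ∧ Z.ρ w 1 1 = Z.ρ w 0 0 + τ * Z.ρ w 1 0 := by
  have a : ∀ i j, Z.ρ (w * Z.C τ) i j = Z.ρ (Z.C τ * w) i j := fun i j => by rw [h]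
  have a1 := a 0 0
  have a2 := a 1 0
  simp [m, ρ_C, -map_mul] at a1 a2
  exact ⟨a1, a2⟩

theorem semis_aux {H : Subgroup G} (hb : Bin G (G ⧸ H)) (hZ : Subgroup.center G ≤ H) {τ : F} (hτ : τ ^ 2 ≠ 4)
    (hu : Z.C τ ∈ H) (hH : ∀ h ∈ H, h * Z.C τ = Z.C τ * h) :
    (2 : F) = 0 ∧ τ = 1 ∧ ∀ ω : F, ω ^ 2 + ω + 1 ≠ 0 := by
  have := Z.fin
  have key : ∀ r s w c : F, r * (τ - r) - s * w = 1 → s - w + τ * (τ - r) = c → (c = τ ∨ c = -τ) →
      s = -w ∧ τ - r = r + τ * w := by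
    intro r s w c h1 h2 h3
    obtain ⟨g1, e1⟩ := Z.conj_of_tr (g := Z.C τ) (h := Z.el r s w (τ - r)) (by rwa [tr_C])
      (by simp [tr, Z.ρ_el h1, ρ_C])
    have t1 : Z.tr (Z.C τ * Z.el r s w (τ - r)) = c := by
      simp [tr, m, Z.ρ_el h1, ρ_C, -map_mul]; linear_combination h2
    have u1 : Z.C τ ∉ Subgroup.center G := fun h => by simpa [ρ_C] using (Z.center_iff.mp h).1
    have : Z.C τ * Z.el r s w (τ - r) = Z.el r s w (τ - r) * Z.C τ := by
      rcases h3 with rfl | rfl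
      · obtain ⟨g2, e2⟩ := Z.conj_of_tr (g := Z.C c) (by rwa [tr_C]) (t1.trans (Z.tr_C c).symm)
        rw [e1] at e2 ⊢
        exact Z.no_triple hb hu u1 hH (Subgroup.one_mem _) H.one_mem (g2 := g2) (by rw [one_mul, e2])
      · obtain ⟨g2, e2⟩ := Z.conj_of_tr (g := Z.C τ) (h := Z.z * (Z.C τ * Z.el r s w (τ - r))) (by rwa [tr_C])
          (by rw [tr_z, t1, tr_C, neg_neg])
        rw [e1] at e2 ⊢
        exact Z.no_triple hb hu u1 hH Z.z_center (hZ Z.z_center) (g2 := g2)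
          (by rw [← e2, ← mul_assoc Z.z, z_sq, one_mul])
    simpa [Z.ρ_el h1] using Z.C_comm this.symm
  by_cases h2 : (2 : F) = 0
  · have : CharP F 2 := (CharP.charP_iff_prime_eq_zero Nat.prime_two).mpr (by simpa using h2)
    obtain ⟨ρ, hρ⟩ := FiniteField.isSquare_of_char_two (ringChar.eq F 2) τ
    have h3 := key (ρ + τ) (ρ ^ 2 + ρ * τ + 1) 1 τ (by grind) (by grind) (Or.inl rfl)
    have h4 : τ = 1 := by grind
    refine ⟨h2, h4, fun ω hω => ?_⟩
    have h5 := key (ω ^ 2) (ω ^ 2) 0 τ (by grind) (by grind) (Or.inl rfl)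
    grind
  · exfalso
    have hD : 4 - τ ^ 2 ≠ 0 := fun e => hτ (by linear_combination -e)
    have ex : ∀ c : F, ∃ r s w, r * (τ - r) - s * w = 1 ∧ s - w + τ * (τ - r) = c := by
      intro c
      obtain ⟨X, Y, e⟩ := sq2 hD one_ne_zero ((τ ^ 2 - 2 * c) ^ 2 - (4 - τ ^ 2) ^ 2)
      obtain ⟨s, hs⟩ : ∃ s, (4 - τ ^ 2) * s + τ ^ 2 - 2 * c = Y :=
        ⟨(Y - τ ^ 2 + 2 * c) / (4 - τ ^ 2), by field_simp; ring⟩
      obtain ⟨r, hr⟩ : ∃ r, 2 * r - τ * s - τ = X := ⟨(X + τ * s + τ) / 2, by field_simp; ring⟩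
      refine ⟨r, s, s + τ * (τ - r) - c, ?_, by ring⟩
      apply mul_left_cancel₀ (mul_ne_zero (mul_ne_zero h2 h2) hD)
      rw [← hs, ← hr] at e
      linear_combination -e
    by_cases h1 : τ = -1
    · obtain ⟨r, s, w, e1, e2⟩ := ex (-τ)
      have := key r s w _ e1 e2 (Or.inr rfl)
      apply hτ
      apply mul_left_cancel₀ h2
      grind
    · obtain ⟨r, s, w, e1, e2⟩ := ex τ
      have := key r s w _ e1 e2 (Or.inl rfl)
      have h3 : (τ - 2) ^ 2 * (τ + 1) = 0 := by grind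
      rcases mul_eq_zero.mp h3 with h4 | h4
      · apply hτ
        have : τ = 2 := by simpa [sub_eq_zero] using h4
        rw [this]; norm_num
      · exact h1 (by linear_combination h4)

theorem conj_tr (k g : G) : (Z.conj k).tr g = Z.tr g := by
  have := Z.tr_conj k⁻¹ g
  rw [inv_inv] at this
  rw [← this]
  unfold tr
  rw [conj_ρ]

theorem semis {H : Subgroup G} (hb : Bin G (G ⧸ H)) (hZ : Subgroup.center G ≤ H) {u : G} (hτ : Z.tr u ^ 2 ≠ 4)
    (hu : u ∈ H) (hH : ∀ h ∈ H, h * u = u * h) :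
    (2 : F) = 0 ∧ Z.tr u = 1 ∧ ∀ ω : F, ω ^ 2 + ω + 1 ≠ 0 := by
  obtain ⟨k, hk⟩ := Z.conj_C hτ
  rw [← conj_C'] at hk
  exact (Z.conj k).semis_aux hb hZ hτ (hk ▸ hu) (hk ▸ hH)

theorem same_or_inv {u w : G} (hτ : Z.tr u ^ 2 ≠ 4) (h1 : Z.tr w = Z.tr u) (h2 : w * u = u * w) :
    w = u ∨ w = u⁻¹ := by
  obtain ⟨k, hk⟩ := Z.conj_C hτ
  rw [← conj_C'] at hk
  rw [← Z.conj_tr k w] at h1
  generalize Z.tr u = τ at *
  generalize Z.conj k = Y at *
  subst hk
  obtain ⟨a1, a2⟩ := Y.C_comm h2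
  have hd := Y.d w
  unfold tr at h1
  have h3 : (τ ^ 2 - 4) * ((Y.ρ w 1 0 - 1) * (Y.ρ w 1 0 + 1)) = 0 := by grind
  have h4 := (mul_eq_zero.mp h3).resolve_left (sub_ne_zero.mpr hτ)
  have h5 : Y.ρ w 0 0 * Y.ρ w 1 1 = 0 := by grind
  by_cases h6 : Y.ρ w 0 0 = 0
  · by_cases h7 : Y.ρ w 1 0 = 1
    · left; apply Y.ext' <;> simp [ρ_C] <;> grind
    · right; apply Y.ext' <;> simp [ρ_C, ρ_inv] <;> grind
  · right; apply Y.ext' <;> simp [ρ_C, ρ_inv] <;> grind

theorem no_unip {H : Subgroup G} (hb : Bin G (G ⧸ H)) (hZ : Subgroup.center G ≤ H) (h2 : (2 : F) ≠ 0) {β : F}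
    (hβ : β ≠ 0) (h0 : Z.S β ∈ H) (hB : ∀ h ∈ H, Z.ρ h 1 0 = 0 ∧ Z.ρ h 0 0 ^ 2 = 1) : False := by
  have l0 : 2 / β ≠ 0 := div_ne_zero h2 hβ
  have h3 : (Z.L (2 / β))⁻¹ * (Z.S β * Z.L (-(4 / β))) * Z.L (2 / β) ∈ H := by
    have := H.mul_mem (hZ Z.z_center) (H.inv_mem h0)
    convert this using 1
    apply Z.ext' <;> simp [m, ρ_inv, ρ_S, ρ_L, ρ_z, -map_mul] <;> field_simp <;> ring
  obtain ⟨g, a1, a2, a3⟩ := hb.tri (x1 := ((Z.t * Z.M (2 / β) : G) : G ⧸ H)) (x2 := ((1 : G) : G ⧸ H))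
    (x3 := (Z.L (2 / β) : G ⧸ H)) (a := Z.L (-(4 / β))) (b := (Z.S β)⁻¹)
    ((smul_mk_iff _ _ _).mpr (by
      convert h0 using 1
      apply Z.ext' <;> simp [m, ρ_inv, ρ_S, ρ_L, ρ_t, Z.ρ_M l0, -map_mul] <;> field_simp <;> ring))
    ((smul_mk_iff _ _ _).mpr (by simpa using h0))
    (by rw [eq_inv_smul_iff, ← mul_smul, smul_mk_iff]; exact h3)
  have gH : g ∈ H := by simpa using (smul_mk_iff _ _ _).mp a2
  obtain ⟨b1, b2⟩ := hB g gH
  have b3 := (Z.fix_iff _ _).mp (hB _ ((smul_mk_iff _ _ _).mp a1)).1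
  simp [m, ρ_t, Z.ρ_M l0, -map_mul, h2, hβ] at b3
  have hd := Z.d g
  have hg : g ∈ Subgroup.center G := Z.center_iff.mpr ⟨b3, b1, by grind⟩
  have a4 : g • (Z.L (2 / β) : G ⧸ H) = Z.L (2 / β) := by
    rw [smul_mk_iff, mul_assoc, ← Subgroup.mem_center_iff.mp hg, inv_mul_cancel_left]; exact gH
  rw [a4] at a3
  have b4 := (Z.fix_iff _ _).mp (hB _ ((smul_mk_iff _ _ _).mp a3.symm)).1
  simp [ρ_L, hβ] at b4
  exact mul_ne_zero h2 h2 (by linear_combination b4)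

theorem B_pow {g : G} (h : Z.ρ g 1 0 = 0) (n : ℕ) : Z.ρ (g ^ n) 0 0 = Z.ρ g 0 0 ^ n := by
  induction n with
  | zero => simp
  | succ n ih => rw [pow_succ, m, ih, h, pow_succ]; simp

theorem center_sq {g : G} (h : g ∈ Subgroup.center G) : Z.ρ g 0 0 ^ 2 = 1 ∧ g * g = 1 := by
  obtain ⟨h1, h2, h3⟩ := Z.center_iff.mp h
  have hd := Z.d g
  refine ⟨by grind, ?_⟩
  apply Z.ext' <;> simp [m, h1, h2, -map_mul] <;> grind

theorem comm_of_sq {K : Type*} [Group K] {g u : K} {n : ℕ} (h1 : g ^ (2 * n + 1) ∈ Subgroup.center K)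
    (h2 : g * g * u = u * (g * g)) : g * u = u * g := by
  have h3 : Commute ((g * g) ^ n) u := (show Commute (g * g) u from h2).pow_left n
  have h4 : Commute (g ^ (2 * n + 1)) u := (Subgroup.mem_center_iff.mp h1 u).symm
  have := h3.inv_left.mul_left h4
  rwa [pow_succ, pow_mul, sq, inv_mul_cancel_left] at this

include Z in
theorem main_odd {K : Type*} [Group K] [Finite K] (π : G →* K) (hπ : Function.Surjective π)
    (hk : π.ker = Subgroup.center G) {H : Subgroup K} (hb : Bin K (K ⧸ H)) (h0 : H ≠ ⊥) (ho : Odd (Nat.card H)) :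
    (2 : F) = 0 ∧ (∀ ω : F, ω ^ 2 + ω + 1 ≠ 0) ∧ Nat.card H = 3 := by
  have hb' := (bin_comap π hπ H).mpr hb
  have hZ : Subgroup.center G ≤ H.comap π := by rw [← hk]; exact Subgroup.ker_le_comap π H
  obtain ⟨n, hn⟩ := ho
  have pw : ∀ g ∈ H.comap π, g ^ (2 * n + 1) ∈ Subgroup.center G := by
    intro g hg
    rw [← hk, MonoidHom.mem_ker, map_pow, ← hn]
    exact RankOne.pow_card_eq_one_of_mem hg
  have sq1 : ∀ g ∈ H.comap π, g * g ∈ Subgroup.center G → g ∈ Subgroup.center G := fun g hg h =>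
    Subgroup.mem_center_iff.mpr fun u => (comm_of_sq (pw g hg) (Subgroup.mem_center_iff.mp h u).symm).symm
  obtain ⟨A, A0, AH, Ac, An⟩ := RankOne.exists_abelian_normal (Ben.solvable_of_odd ⟨n, hn⟩) h0
  obtain ⟨⟨u, hu⟩, u1⟩ := (Subgroup.ne_bot_iff_exists_ne_one).mp A0
  obtain ⟨u, rfl⟩ := hπ u
  have u1 : u ∉ Subgroup.center G := by rw [← hk]; simpa using u1
  have uH : u ∈ H.comap π := AH hu
  have cu : ∀ g ∈ H.comap π, g * u * g⁻¹ * u = u * (g * u * g⁻¹) := by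
    intro g hg
    have h1 := Ac _ (An _ hg _ hu) _ hu
    have h2 : u * (g * u * g⁻¹) * u⁻¹ * (g * u * g⁻¹)⁻¹ ∈ Subgroup.center G := by
      rw [← hk, MonoidHom.mem_ker]
      simp only [map_mul, map_inv]
      rw [← h1]; group
    generalize g * u * g⁻¹ = w at h2
    refine (comm_of_sq (pw u uH) ?_).symm
    have h3 := (Z.center_sq h2).2
    generalize hz : u * w * u⁻¹ * w⁻¹ = z at h2 h3
    have h4 : u * w = z * w * u := by rw [← hz]; group
    have h5 := Subgroup.mem_center_iff.mp h2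
    calc u * u * w = u * (z * w * u) := by rw [mul_assoc, h4]
      _ = z * (u * w) * u := by rw [← mul_assoc, ← mul_assoc, h5 u]; group
      _ = (z * z) * w * (u * u) := by rw [h4]; group
      _ = _ := by rw [h3, one_mul]
  by_cases hτ : Z.tr u ^ 2 = 4
  · exfalso
    obtain ⟨v, vH, v1, v2, v3⟩ : ∃ v ∈ H.comap π, v ∉ Subgroup.center G ∧ Z.tr v = 2 ∧
        ∀ g ∈ H.comap π, g * v * g⁻¹ * v = v * (g * v * g⁻¹) := by
      have : (Z.tr u - 2) * (Z.tr u + 2) = 0 := by linear_combination hτ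
      rcases mul_eq_zero.mp this with h | h
      · exact ⟨u, uH, u1, by linear_combination h, cu⟩
      · refine ⟨Z.z * u, Subgroup.mul_mem _ (hZ Z.z_center) uH,
          fun h => u1 ((Subgroup.mul_mem_cancel_left _ Z.z_center).mp h), by rw [tr_z]; linear_combination -h,
          fun g hg => ?_⟩
        have h5 : ∀ x, Commute Z.z x := fun x => (Subgroup.mem_center_iff.mp Z.z_center x).symm
        have h6 : g * (Z.z * u) * g⁻¹ = Z.z * (g * u * g⁻¹) := by rw [← mul_assoc, ← (h5 g).eq]; group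
        rw [h6]
        exact (h5 _).mul_left ((h5 _).symm.mul_right (cu g hg))
    obtain ⟨k, β, e⟩ := Z.uni v2
    rw [← conj_S] at e
    generalize Z.conj k = Y at e
    subst e
    have hβ : β ≠ 0 := by rintro rfl; exact v1 (Y.S_zero ▸ Subgroup.one_mem _)
    have h2 : (2 : F) ≠ 0 := by
      intro h2
      apply v1
      apply sq1 _ vH
      rw [S_mul, ← two_mul, h2, zero_mul, S_zero]; exact Subgroup.one_mem _
    have hB : ∀ g ∈ H.comap π, Y.ρ g 1 0 = 0 := by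
      intro g hg
      have h1 := congrFun (congrFun (congrArg Y.ρ (v3 g hg)) 0) 0
      rw [m, m (g := Y.S β)] at h1
      simp only [ρ_S] at h1
      simp [-map_mul, hβ] at h1
      simp only [m, ρ_inv, ρ_S] at h1
      simp at h1
      have : Y.ρ g 1 0 ^ 2 * β = 0 := by linear_combination -h1
      simpa [hβ] using this
    refine Y.no_unip hb' hZ h2 hβ vH fun h hh => ⟨hB h hh, Y.no_torus hb' hB hβ vH hh fun h3 => h2 ?_⟩
    have h4 := (Y.center_sq (pw h hh)).1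
    rw [Y.B_pow (hB h hh), ← pow_mul, mul_comm, pow_mul, h3, pow_succ, pow_mul] at h4
    simp at h4
    linear_combination -h4
  have hH : ∀ g ∈ H.comap π, g * u = u * g := by
    intro g hg
    apply comm_of_sq (pw g hg)
    rcases Z.same_or_inv hτ (Z.tr_conj g u) (cu g hg) with h | h
    · calc g * g * u = g * (g * u * g⁻¹) * g := by group
        _ = g * u * g := by rw [h]
        _ = (g * u * g⁻¹) * (g * g) := by group
        _ = _ := by rw [h]
    · calc g * g * u = g * (g * u * g⁻¹) * g := by group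
        _ = g * u⁻¹ * g := by rw [h]
        _ = (g * u * g⁻¹)⁻¹ * (g * g) := by group
        _ = _ := by rw [h, inv_inv]
  obtain ⟨h2, t1, hω⟩ := Z.semis hb' hZ hτ uH hH
  refine ⟨h2, hω, ?_⟩
  have : CharP F 2 := (CharP.charP_iff_prime_eq_zero Nat.prime_two).mpr (by simpa using h2)
  have u3 : u ^ 3 = 1 := by
    have hd := Z.d u
    unfold tr at t1
    apply Z.ext' <;> simp [pow_succ, m, -map_mul] <;> grind
  have : Fact (Nat.Prime 3) := ⟨Nat.prime_three⟩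
  have o3 : orderOf (π u) = 3 := orderOf_eq_prime (by rw [← map_pow, u3, map_one]) (by rwa [← hk] at u1)
  rw [← o3, ← Nat.card_zpowers]
  suffices H = Subgroup.zpowers (π u) from congrArg (fun K : Subgroup K => Nat.card K) this
  refine le_antisymm (fun h hh => ?_) (Subgroup.zpowers_le.mpr uH)
  obtain ⟨h, rfl⟩ := hπ h
  by_cases h1 : h ∈ Subgroup.center G
  · rw [← hk, MonoidHom.mem_ker] at h1
    rw [h1]; exact Subgroup.one_mem _
  have hτ' : Z.tr h ^ 2 ≠ 4 := by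
    intro e
    apply h1
    apply sq1 _ hh
    have hd := Z.d h
    unfold tr at e
    have e1 : (Z.ρ h 0 0 + Z.ρ h 1 1) ^ 2 = 0 := by grind
    have e2 : Z.ρ h 0 0 + Z.ρ h 1 1 = 0 := by simpa using e1
    rw [Z.center_iff]
    simp only [m]
    refine ⟨?_, ?_, ?_⟩ <;> grind
  obtain ⟨-, t2, -⟩ := Z.semis hb' hZ hτ' hh fun g hg => Z.comm2 u1 (hH g hg) (hH h hh)
  rcases Z.same_or_inv hτ (t2.trans t1.symm) (hH h hh) with rfl | rfl
  · exact Subgroup.mem_zpowers _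
  · rw [map_inv]; exact Subgroup.inv_mem _ (Subgroup.mem_zpowers _)

theorem tr_three [CharP F 2] (hω : ∀ ω : F, ω ^ 2 + ω + 1 ≠ 0) {g : G} (h : g ^ 3 = 1) (h1 : g ≠ 1) : Z.tr g = 1 := by
  have e : g⁻¹ = g * g := by rw [inv_eq_iff_mul_eq_one, ← h]; simp [pow_succ, mul_assoc]
  have a : ∀ i j, Z.ρ g⁻¹ i j = Z.ρ (g * g) i j := fun i j => by rw [e]
  have a1 := a 0 0
  have a2 := a 0 1
  have a3 := a 1 0
  have a4 := a 1 1
  simp [m, ρ_inv, -map_mul] at a1 a2 a3 a4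
  have hd := Z.d g
  unfold tr
  by_contra hc
  have b1 : Z.ρ g 0 1 = 0 := by grind
  have b2 : Z.ρ g 1 0 = 0 := by grind
  have b3 := hω (Z.ρ g 0 0)
  apply h1
  apply Z.ext' <;> simp <;> grind

theorem same_of_three [CharP F 2] (hω : ∀ ω : F, ω ^ 2 + ω + 1 ≠ 0) {x y : G} (h1 : Z.tr x = 1) (h2 : Z.tr y = 1)
    (h3 : Z.tr (x * y) = 1) : x = y := by
  have dx := Z.d x
  have dy := Z.d y
  simp only [tr, m] at h1 h2 h3
  have b1 : Z.ρ x 0 1 + Z.ρ y 0 1 = 0 := by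
    by_contra hc
    apply hω (Z.ρ x 0 0 + Z.ρ x 0 1 * (Z.ρ x 0 0 + Z.ρ y 0 0) / (Z.ρ x 0 1 + Z.ρ y 0 1))
    field_simp
    grind
  have b2 : (Z.ρ x 0 0 + Z.ρ y 0 0) ^ 2 = 0 := by grind
  have b3 : Z.ρ x 0 0 + Z.ρ y 0 0 = 0 := by simpa using b2
  have b4 : Z.ρ x 0 1 ≠ 0 := fun h => hω (Z.ρ x 0 0) (by grind)
  apply Z.ext' <;> grind

include Z in
theorem bin_three [CharP F 2] (hω : ∀ ω : F, ω ^ 2 + ω + 1 ≠ 0) {H : Subgroup G} (h3 : Nat.card H = 3) :
    Bin G (G ⧸ H) := by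
  have := Z.finite
  have c3 : ∀ x : G ⧸ H, Nat.card (MulAction.stabilizer G x) = 3 := by
    intro x
    induction x using QuotientGroup.induction_on with
    | H g =>
    rw [← h3, ← Subgroup.card_map_of_injective (f := (MulAut.conj g⁻¹).toMonoidHom) (MulAut.conj g⁻¹).injective]
    congr 2
    ext x
    constructor
    · rintro ⟨y, hy, rfl⟩
      simpa using (smul_mk_iff H y g).mp hy
    · intro hx
      exact ⟨g * x * g⁻¹, (smul_mk_iff H _ g).mpr (by simpa [mul_assoc] using hx), by simp [mul_assoc]⟩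
  have : Fact (Nat.Prime 3) := ⟨Nat.prime_three⟩
  have p3 : ∀ (x : G ⧸ H) (a : G), a • x = x → a ^ 3 = 1 := fun x a h =>
    c3 x ▸ RankOne.pow_card_eq_one_of_mem (D := MulAction.stabilizer G x) h
  have st : ∀ (x : G ⧸ H) (a : G), a ≠ 1 → a • x = x → MulAction.stabilizer G x = Subgroup.zpowers a := by
    intro x a a1 h
    refine (Subgroup.eq_of_le_of_card_ge (by simpa using h) ?_).symm
    rw [c3, Nat.card_zpowers, orderOf_eq_prime (p3 x a h) a1]
  refine bin_of fun x0 x1 x2 a b hne ha hb hab => ?_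
  by_cases a1 : a = 1
  · rw [a1, one_smul]
  by_cases b1 : b = 1
  · rw [hab, b1, one_smul]
  exfalso
  apply hne
  rw [st x0 a a1 ha, st x1 b b1 hb]
  by_cases c1 : b⁻¹ * a = 1
  · rw [inv_mul_eq_one.mp c1]
  have := Z.same_of_three hω ((Z.tr_inv b).trans (Z.tr_three hω (p3 _ _ hb) b1)) (Z.tr_three hω (p3 _ _ ha) a1)
    (Z.tr_three hω (p3 x2 _ (by rw [mul_smul, hab, inv_smul_smul])) c1)
  rw [← this, Subgroup.zpowers_inv]

include Z in
theorem odd_even {K : Type*} [Group K] [Finite K] [IsSimpleGroup K] (π : G →* K) (hπ : Function.Surjective π)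
    (hk : π.ker = Subgroup.center G) (h2 : (2 : F) ≠ 0) (h5 : ∃ a : F, a ^ 5 ≠ a) {H : Subgroup K} (hH : H ≠ ⊤)
    (he : Even (Nat.card H)) (hb : Bin K (K ⧸ H)) : False := by
  have := Z.fin
  have : Fact (Nat.Prime 2) := ⟨Nat.prime_two⟩
  have h4 : (0 : F) ^ 2 ≠ 4 := fun h => mul_ne_zero h2 h2 (by linear_combination -h)
  have lift : ∀ s : G, π s ≠ 1 → π s * π s = 1 → Z.tr s = 0 := by
    intro s s1 s2
    rw [← map_mul, ← MonoidHom.mem_ker, hk, Z.center_iff] at s2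
    rw [Ne, ← MonoidHom.mem_ker, hk, Z.center_iff] at s1
    simp only [m] at s2
    unfold tr
    by_contra hc
    apply s1
    refine ⟨?_, ?_, ?_⟩ <;> grind
  have hone : ∀ s t : K, s ≠ 1 → s * s = 1 → t ≠ 1 → t * t = 1 → IsConj s t := by
    intro s t s1 s2 t1 t2
    obtain ⟨s, rfl⟩ := hπ s
    obtain ⟨t, rfl⟩ := hπ t
    obtain ⟨k, rfl⟩ := Z.conj_of_tr (g := s) (h := t) (by rw [lift s s1 s2]; exact h4)
      (by rw [lift s s1 s2, lift t t1 t2])
    exact isConj_iff.mpr ⟨π k, by simp⟩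
  have comm : ∀ a ∈ H, ∀ b ∈ H, a * b = b * a := by
    have cen : ∀ P : Subgroup K, ∀ a ∈ (Subgroup.center P).map P.subtype, ∀ b ∈ (Subgroup.center P).map P.subtype,
        a * b = b * a := by
      rintro P _ ⟨a, -, rfl⟩ _ ⟨b, hb, rfl⟩
      exact congrArg Subtype.val (Subgroup.mem_center_iff.mp hb a)
    rcases (main (fun s t hs ht => hone s t (by rintro rfl; simp at hs) (by rw [← sq, ← hs, pow_orderOf_eq_one])
      (by rintro rfl; simp at ht) (by rw [← sq, ← ht, pow_orderOf_eq_one])) H hH he).mp hb with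
      ⟨⟨E, _, _, n, hn, hE, ⟨e⟩⟩, P, rfl⟩ | ⟨-, P, rfl⟩ | ⟨-, P, rfl⟩
    · have := charP_two hE
      obtain ⟨k, hk⟩ := (ofEquiv e).exists_conj_U (exists_ne01 (hE ▸ four_le hn)) P
      rw [hk]
      rintro _ ⟨a, rfl⟩ _ ⟨b, rfl⟩
      rw [S_mul, S_mul, add_comm]
    · exact cen _
    · exact cen _
  obtain ⟨s, hs, s1, s2⟩ := RankOne.exists_involution_mem he
  obtain ⟨s, rfl⟩ := hπ s
  obtain ⟨k, e⟩ := Z.conj_C (g := s) (by rw [lift s s1 s2]; exact h4)
  rw [lift s s1 s2, ← conj_C'] at e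
  generalize Z.conj k = Y at e
  subst e
  have mem : ∀ x y : F, x ^ 2 + y ^ 2 = -1 → π (Y.el x y y (-x)) ∈ H := by
    intro x y h
    have hd : x * -x - y * y = 1 := by linear_combination -h
    refine hb.mem_of_comm hone hs s1 s2 ?_ ?_
    · rw [← map_mul, ← MonoidHom.mem_ker, hk, Y.center_iff]
      simp [m, Y.ρ_el hd, -map_mul]
      refine ⟨?_, ?_, ?_⟩ <;> ring
    · rw [← mul_inv_eq_one, ← map_mul, ← map_mul, ← map_inv, ← map_mul, ← MonoidHom.mem_ker, hk, Y.center_iff]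
      simp [m, ρ_inv, ρ_C, Y.ρ_el hd, -map_mul, -_root_.mul_inv_rev]
      refine ⟨?_, ?_, ?_⟩ <;> ring
  obtain ⟨x, y, hxy⟩ := sq2 (one_ne_zero (α := F)) one_ne_zero (-1)
  simp only [one_mul] at hxy
  obtain ⟨a, ha⟩ := h5
  have a1 : 1 + a ^ 2 ≠ 0 := fun h => ha (by linear_combination (a ^ 3 - a) * h)
  have a2 : 1 - a ^ 2 ≠ 0 := fun h => ha (by linear_combination (-a ^ 3 - a) * h)
  have a3 : a ≠ 0 := fun h => ha (by simp [h])
  obtain ⟨c, d, c0, d0, hcd⟩ : ∃ c d : F, c ≠ 0 ∧ d ≠ 0 ∧ c ^ 2 + d ^ 2 = 1 :=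
    ⟨(1 - a ^ 2) / (1 + a ^ 2), 2 * a / (1 + a ^ 2), div_ne_zero a2 a1, div_ne_zero (mul_ne_zero h2 a3) a1,
      by field_simp; ring⟩
  have h6 : (x * c - y * d) ^ 2 + (x * d + y * c) ^ 2 = -1 := by linear_combination (c ^ 2 + d ^ 2) * hxy - hcd
  have h7 := comm _ (mem _ _ hxy) _ (mem _ _ h6)
  have hd1 : x * -x - y * y = 1 := by linear_combination -hxy
  have hd2 : (x * c - y * d) * -(x * c - y * d) - (x * d + y * c) * (x * d + y * c) = 1 := by linear_combination -h6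
  rw [← mul_inv_eq_one, ← map_mul, ← map_mul, ← map_inv, ← map_mul, ← MonoidHom.mem_ker, hk, Y.center_iff] at h7
  have h8 := h7.1
  simp only [m, ρ_inv, Y.ρ_el hd1, Y.ρ_el hd2] at h8
  simp at h8
  apply mul_ne_zero h2 (mul_ne_zero c0 d0)
  clear h7 mem comm hone lift
  grind

end Mod

theorem no_omega {F : Type*} [Field F] [Fintype F] {a : ℕ} (hF : Fintype.card F = 2 ^ a) :
    (∀ ω : F, ω ^ 2 + ω + 1 ≠ 0) ↔ Odd a := by
  classical
  have := charP_two hF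
  have : Fact (Nat.Prime 3) := ⟨Nat.prime_three⟩
  have key : (∃ ω : F, ω ^ 2 + ω + 1 = 0) ↔ 3 ∣ 2 ^ a - 1 := by
    rw [← hF, ← Fintype.card_units]
    constructor
    · rintro ⟨ω, h⟩
      have h0 : ω ≠ 0 := by rintro rfl; simp at h
      have : orderOf (Units.mk0 ω h0) = 3 := orderOf_eq_prime (Units.ext (by simp; grind))
        (fun e => by
          have : ω = 1 := by simpa using congrArg Units.val e
          grind)
      exact this ▸ orderOf_dvd_card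
    · intro h
      obtain ⟨x, hx⟩ := exists_prime_orderOf_dvd_card 3 h
      refine ⟨x, ?_⟩
      have h1 : (x : F) ^ 3 = 1 := by rw [← Units.val_pow_eq_pow_val, ← hx, pow_orderOf_eq_one, Units.val_one]
      have h2 : (x : F) - 1 ≠ 0 := by
        rw [sub_ne_zero, Ne, Units.val_eq_one]; rintro rfl; simp at hx
      apply mul_left_cancel₀ h2
      linear_combination h1
  have h1 : 1 ≤ 2 ^ a := Nat.one_le_two_pow
  have h2 : (∀ ω : F, ω ^ 2 + ω + 1 ≠ 0) ↔ ¬ 3 ∣ 2 ^ a - 1 := by rw [← key, not_exists]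
  rw [h2]
  rcases Nat.even_or_odd' a with ⟨k, rfl | rfl⟩
  · have : 2 ^ (2 * k) % 3 = 1 := by rw [pow_mul, Nat.pow_mod]; simp
    simp only [Nat.odd_iff]
    omega
  · have : 2 ^ (2 * k + 1) % 3 = 2 := by rw [pow_succ, pow_mul, Nat.mul_mod, Nat.pow_mod]; simp
    simp only [Nat.odd_iff]
    omega

theorem psl2_main {F : Type*} [Field F] [Fintype F] (h4 : 4 ≤ Fintype.card F) (h5 : Fintype.card F ≠ 5)
    (H : Subgroup (ProjectiveSpecialLinearGroup (Fin 2) F)) (hH : H ≠ ⊤) :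
    Bin (ProjectiveSpecialLinearGroup (Fin 2) F) (ProjectiveSpecialLinearGroup (Fin 2) F ⧸ H) ↔
      (H = ⊥ ∨ ((∃ a : ℕ, Fintype.card F = 2 ^ a) ∧
        ∃ P : Sylow 2 (ProjectiveSpecialLinearGroup (Fin 2) F), H = P) ∨
        ((∃ a : ℕ, Odd a ∧ Fintype.card F = 2 ^ a) ∧ Nat.card H = 3)) := by
  let Z := ofEquiv (MulEquiv.refl (SpecialLinearGroup (Fin 2) F))
  have hs := ProjectiveSpecialLinearGroup.rank_two_simple (F := F) (by rwa [Nat.card_eq_fintype_card])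
  have pw : (2 : F) = 0 → ∃ a, Fintype.card F = 2 ^ a := by
    intro h2
    have : CharP F 2 := (CharP.charP_iff_prime_eq_zero Nat.prime_two).mpr (by simpa using h2)
    obtain ⟨n, -, hn⟩ := FiniteField.card F 2
    exact ⟨n, hn⟩
  constructor
  · intro hb
    by_cases h0 : H = ⊥
    · exact Or.inl h0
    right
    rcases Nat.even_or_odd (Nat.card H) with he | ho
    · left
      by_cases h2 : (2 : F) = 0
      · obtain ⟨a, ha⟩ := pw h2
        have := charP_two ha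
        obtain ⟨e⟩ := psl_equiv (F := F)
        exact ⟨⟨a, ha⟩, ((ofEquiv e).main_even (exists_ne01 h4) H hH he).mp hb⟩
      · refine (Z.odd_even (QuotientGroup.mk' _) (QuotientGroup.mk'_surjective _) (QuotientGroup.ker_mk' _) h2 ?_
          hH he hb).elim
        by_contra hc
        push Not at hc
        have h6 := Herm.ncard_pow_eq_le (F := F) (n := 5) (by norm_num)
        rw [show {a : F | a ^ 5 = a} = Set.univ from Set.eq_univ_of_forall hc, Set.ncard_univ,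
          Nat.card_eq_fintype_card] at h6
        have h7 := FiniteField.odd_card_of_char_ne_two (F := F) (fun h => h2 (by
          have := ringChar.spec F 2
          rw [h] at this
          simpa using this.mpr dvd_rfl))
        omega
    · obtain ⟨h2, hω, h3⟩ := Z.main_odd (QuotientGroup.mk' _) (QuotientGroup.mk'_surjective _)
        (QuotientGroup.ker_mk' _) hb h0 ho
      obtain ⟨a, ha⟩ := pw h2
      exact Or.inr ⟨⟨a, (no_omega ha).mp hω, ha⟩, h3⟩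
  · rintro (rfl | ⟨⟨a, ha⟩, P, rfl⟩ | ⟨⟨a, ho, ha⟩, h3⟩)
    · exact bin_bot
    · have := charP_two ha
      obtain ⟨e⟩ := psl_equiv (F := F)
      obtain ⟨k, hk⟩ := (ofEquiv e).exists_conj_U (exists_ne01 h4) P
      rw [hk]
      exact Mod.bin_U _
    · have := charP_two ha
      obtain ⟨e⟩ := psl_equiv (F := F)
      exact (ofEquiv e).bin_three ((no_omega ha).mpr ho) h3

end Cfsg.Agent.Fil.L2
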